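import Groth.Agent.H8Props.Devissage.Points
import Mathlib.AlgebraicGeometry.Morphisms.Smooth
import Mathlib.RingTheory.Spectrum.Prime.Topology

/-!
# Localizing dévissages: fibres, residue fields and the smooth part
-/

set_option autoImplicit false

universe u

open TensorProduct CategoryTheory CategoryTheory.Limits AlgebraicGeometry

attribute [local instance] Algebra.TensorProduct.rightAlgebra

namespace Groth.Agent.H8Props.Devissage

section Dim

variable {X Y : Type*} [TopologicalSpace X] [TopologicalSpace Y]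

theorem localDim_le_topologicalKrullDim (x : X) : FlatMor.localDim X x ≤ topologicalKrullDim X :=
  (iInf_le _ ⟨⊤, trivial⟩).trans (topologicalKrullDim_subspace_le X _)

theorem localDim_openEmbedding {f : Y → X} (hf : Topology.IsOpenEmbedding f) (y : Y) :
    FlatMor.localDim Y y = FlatMor.localDim X (f y) := by
  refine le_antisymm (le_iInf fun U => ?_) (le_iInf fun V => ?_)
  · refine (iInf_le _ ⟨⟨f ⁻¹' U.1, U.1.2.preimage hf.continuous⟩, U.2⟩).trans ?_
    exact (Topology.IsInducing.restrictPreimage (U.1 : Set X) hf.isInducing).topologicalKrullDim_le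
  · refine (iInf_le _ ⟨⟨f '' V.1, hf.isOpenMap _ V.1.2⟩, y, V.2, rfl⟩).trans ?_
    exact (IsHomeomorph.topologicalKrullDim_eq _
      (hf.isEmbedding.homeomorphImage (V.1 : Set Y)).isHomeomorph).ge

/-- An open subspace containing a point of full local dimension has the same dimension. -/
theorem topologicalKrullDim_of_openEmbedding {f : Y → X} (hf : Topology.IsOpenEmbedding f) (y : Y)
    (h : FlatMor.localDim X (f y) = topologicalKrullDim X) :
    topologicalKrullDim Y = topologicalKrullDim X :=
  le_antisymm hf.isInducing.topologicalKrullDim_le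
    ((h.ge.trans (localDim_openEmbedding hf y).ge).trans (localDim_le_topologicalKrullDim y))

end Dim

/-- The dimension of the support as a topological space. -/
theorem supportDim_eq_topologicalKrullDim {F : Type u} [CommRing F] (M : Type u) [AddCommGroup M]
    [Module F M] [Module.Finite F M] :
    Module.supportDim F M = topologicalKrullDim (Module.support F M) := by
  rw [Module.supportDim_eq_ringKrullDim_quotient_annihilator,
    ← PrimeSpectrum.topologicalKrullDim_eq_ringKrullDim]
  have hr : Set.range (PrimeSpectrum.comap (Ideal.Quotient.mk (Module.annihilator F M))) =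
      Module.support F M := by
    rw [Module.support_eq_zeroLocus, range_comap_of_surjective _ _
      Ideal.Quotient.mk_surjective, Ideal.mk_ker]
  exact IsHomeomorph.topologicalKrullDim_eq _
    ((PrimeSpectrum.isClosedEmbedding_comap_of_surjective _ _
      Ideal.Quotient.mk_surjective).toIsEmbedding.toHomeomorph.trans
      (Homeomorph.setCongr hr)).isHomeomorph

section Support

variable {R S : Type u} [CommRing R] [CommRing S] [Algebra R S] (p : Ideal R) [p.IsPrime]
  (N : Type u) [AddCommGroup N] [Module S N] [Module.Finite S N]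

/-- The part of the support over a point. -/
def fibreSupp : Set (PrimeSpectrum S) :=
  {x | PrimeSpectrum.comap (algebraMap R S) x = ⟨p, inferInstance⟩ ∧ x ∈ Module.support S N}

theorem comap_mem_fibreSupp (P : Module.support (p.Fiber S) (FlatCA.fiberMod p S N)) :
    PrimeSpectrum.comap (algebraMap S (p.Fiber S)) P.1 ∈ fibreSupp (S := S) p N :=
  ⟨((PrimeSpectrum.preimageEquivFiber R S ⟨p, inferInstance⟩).symm P.1).2,
    (mem_support_fiberMod_iff R S p N P.1).mp P.2⟩

theorem mem_support_of_equiv
    (x : ↥(PrimeSpectrum.comap (algebraMap R S) ⁻¹' {⟨p, inferInstance⟩}))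
    (hx : x.1 ∈ Module.support S N) :
    PrimeSpectrum.preimageHomeomorphFiber R S ⟨p, inferInstance⟩ x ∈
      Module.support (p.Fiber S) (FlatCA.fiberMod p S N) := by
  refine (mem_support_fiberMod_iff R S p N _).mpr ?_
  have h : PrimeSpectrum.comap (algebraMap S (p.Fiber S))
      (PrimeSpectrum.preimageHomeomorphFiber R S ⟨p, inferInstance⟩ x) = x.1 :=
    congrArg (fun y : ↥(PrimeSpectrum.comap (algebraMap R S) ⁻¹' {⟨p, inferInstance⟩}) => y.1)
      ((PrimeSpectrum.preimageEquivFiber R S ⟨p, inferInstance⟩).symm_apply_apply x)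
  rw [h]
  exact hx

/-- The support of the fibre module is the fibre of the support. -/
noncomputable def supportHomeomorph :
    Module.support (p.Fiber S) (FlatCA.fiberMod p S N) ≃ₜ fibreSupp (S := S) p N where
  toFun P := ⟨_, comap_mem_fibreSupp (S := S) p N P⟩
  invFun x := ⟨PrimeSpectrum.preimageHomeomorphFiber R S ⟨p, inferInstance⟩ ⟨x.1, x.2.1⟩,
    mem_support_of_equiv p N ⟨x.1, x.2.1⟩ x.2.2⟩
  left_inv P := Subtype.ext
    ((PrimeSpectrum.preimageEquivFiber R S ⟨p, inferInstance⟩).apply_symm_apply P.1)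
  right_inv x := Subtype.ext (congrArg
    (fun y : ↥(PrimeSpectrum.comap (algebraMap R S) ⁻¹' {⟨p, inferInstance⟩}) => y.1)
    ((PrimeSpectrum.preimageEquivFiber R S ⟨p, inferInstance⟩).symm_apply_apply ⟨x.1, x.2.1⟩))
  continuous_toFun :=
    ((PrimeSpectrum.continuous_comap _).comp continuous_subtype_val).subtype_mk _
  continuous_invFun := ((PrimeSpectrum.preimageHomeomorphFiber R S ⟨p, inferInstance⟩).continuous.comp
    (continuous_subtype_val.subtype_mk fun x => x.2.1)).subtype_mk _

theorem supportDim_eq_fibreSupp :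
    Module.supportDim (p.Fiber S) (FlatCA.fiberMod p S N) = topologicalKrullDim (fibreSupp (S := S) p N) := by
  have := finite_fiberMod R S p N
  exact (supportDim_eq_topologicalKrullDim _).trans
    (IsHomeomorph.topologicalKrullDim_eq _ (supportHomeomorph (S := S) p N).isHomeomorph)

variable (q : Ideal S) [q.IsPrime]

theorem exists_localDim_iff (d : WithBot ℕ∞) [q.LiesOver p] :
    (∃ (ξ : PrimeSpectrum (p.Fiber S)) (hξ : ξ ∈ Module.support (p.Fiber S) (FlatCA.fiberMod p S N)),
      ξ.asIdeal = FlatCA.fiberIdeal p q ∧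
      FlatMor.localDim (Module.support (p.Fiber S) (FlatCA.fiberMod p S N)) ⟨ξ, hξ⟩ = d) ↔
    ∃ hq : (⟨q, inferInstance⟩ : PrimeSpectrum S) ∈ fibreSupp (S := S) p N,
      FlatMor.localDim (fibreSupp (S := S) p N) ⟨_, hq⟩ = d := by
  constructor
  · rintro ⟨ξ, hξ, hξq, hd⟩
    have heq : PrimeSpectrum.comap (algebraMap S (p.Fiber S)) ξ = ⟨q, inferInstance⟩ :=
      PrimeSpectrum.ext (show ξ.asIdeal.comap (algebraMap S (p.Fiber S)) = q by
        rw [hξq, comap_fiberIdeal])
    refine ⟨heq ▸ comap_mem_fibreSupp (S := S) p N ⟨ξ, hξ⟩, ?_⟩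
    rw [← hd, ← localDim_homeomorph (supportHomeomorph (S := S) p N) ⟨ξ, hξ⟩]
    exact congrArg _ (Subtype.ext heq.symm)
  · rintro ⟨hq, hd⟩
    let P := (supportHomeomorph (S := S) p N).symm ⟨_, hq⟩
    have hP : P.1.asIdeal.comap (algebraMap S (p.Fiber S)) = q :=
      congrArg (fun x => x.1.asIdeal) ((supportHomeomorph (S := S) p N).apply_symm_apply ⟨_, hq⟩)
    refine ⟨P.1, P.2, ?_, ?_⟩
    · rw [← fiberIdeal_comap p P.1.asIdeal, hP]
    · rw [← hd, ← localDim_homeomorph (supportHomeomorph (S := S) p N).symm ⟨_, hq⟩]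

end Support

section Localization

variable {R S : Type u} [CommRing R] [CommRing S] [Algebra R S] (p : Ideal R) [p.IsPrime]
  (N : Type u) [AddCommGroup N] [Module S N] [Module.Finite S N]
  {R₁ S₁ : Type u} [CommRing R₁] [CommRing S₁] [Algebra R₁ S₁] [Algebra R R₁] [Algebra R S₁]
  [Algebra S S₁] [IsScalarTower R R₁ S₁] [IsScalarTower R S S₁] (g : R) [IsLocalization.Away g R₁]
  (h : S) [IsLocalization.Away h S₁] {N₁ : Type u} [AddCommGroup N₁] [Module S₁ N₁]
  (p₁ : Ideal R₁) [p₁.IsPrime] [p₁.LiesOver p] [Module S N₁] [IsScalarTower S S₁ N₁]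
  {f : N →ₗ[S] N₁}

include g in
omit [Module.Finite S N] [IsLocalization.Away h S₁] [IsScalarTower S S₁ N₁] in
theorem comap_eq_iff (x : PrimeSpectrum S₁) :
    PrimeSpectrum.comap (algebraMap R₁ S₁) x = ⟨p₁, inferInstance⟩ ↔
      PrimeSpectrum.comap (algebraMap R S) (PrimeSpectrum.comap (algebraMap S S₁) x) =
        ⟨p, inferInstance⟩ := by
  have hc : PrimeSpectrum.comap (algebraMap R S) (PrimeSpectrum.comap (algebraMap S S₁) x) =
      PrimeSpectrum.comap (algebraMap R R₁) (PrimeSpectrum.comap (algebraMap R₁ S₁) x) := by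
    rw [← PrimeSpectrum.comap_comp_apply, ← PrimeSpectrum.comap_comp_apply,
      ← IsScalarTower.algebraMap_eq, ← IsScalarTower.algebraMap_eq]
  have hp₁ : PrimeSpectrum.comap (algebraMap R R₁) ⟨p₁, inferInstance⟩ = ⟨p, inferInstance⟩ :=
    PrimeSpectrum.ext (p₁.over_def p).symm
  rw [hc, ← hp₁]
  exact ⟨congrArg _, fun e =>
    (PrimeSpectrum.localization_comap_injective R₁ (Submonoid.powers g)) e⟩

include g in
theorem mem_fibreSupp_iff (hf : IsBaseChange S₁ f) (x : PrimeSpectrum S₁) :
    x ∈ fibreSupp (S := S₁) p₁ N₁ ↔ PrimeSpectrum.comap (algebraMap S S₁) x ∈ fibreSupp (S := S) p N := by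
  refine and_congr (comap_eq_iff p g p₁ x) ?_
  rw [← hf.equiv.support_eq]
  exact H06EGA12.mem_support_baseChange_iff N x

include g h in
/-- The fibre of the support of a localization is open in that of the module. -/
theorem isOpenEmbedding_fibreSupp (hf : IsBaseChange S₁ f) :
    Topology.IsOpenEmbedding fun x : fibreSupp (S := S₁) p₁ N₁ =>
      (⟨_, (mem_fibreSupp_iff p N g p₁ hf x.1).mp x.2⟩ : fibreSupp (S := S) p N) := by
  have he : fibreSupp (S := S₁) p₁ N₁ = PrimeSpectrum.comap (algebraMap S S₁) ⁻¹' fibreSupp (S := S) p N :=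
    Set.ext (mem_fibreSupp_iff p N g p₁ hf)
  exact ((PrimeSpectrum.localization_away_isOpenEmbedding S₁ h).restrictPreimage _).comp
    (Homeomorph.setCongr he).isOpenEmbedding

end Localization

section Residue

variable {D D₁ : Type u} [CommRing D] [CommRing D₁] [Algebra D D₁] (M : Submonoid D)
  [IsLocalization M D₁] (y : Ideal D) [y.IsPrime] (y₁ : Ideal D₁) [y₁.IsPrime] [y₁.LiesOver y]

include M in
theorem residueMap_bijective_of_isLocalization : Function.Bijective (residueMap D y D₁ y₁) := by
  refine ⟨(residueMap D y D₁ y₁).toRingHom.injective, ?_⟩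
  let F : Subfield y₁.ResidueField := (residueMap D y D₁ y₁).toRingHom.fieldRange
  have hbase (d : D) : algebraMap D₁ y₁.ResidueField (algebraMap D D₁ d) ∈ F := by
    refine ⟨algebraMap D y.ResidueField d, ?_⟩
    show residueMap D y D₁ y₁ (algebraMap D y.ResidueField d) = _
    rw [AlgHom.commutes, IsScalarTower.algebraMap_apply D D₁ y₁.ResidueField]
  have hD (d : D₁) : algebraMap D₁ y₁.ResidueField d ∈ F := by
    obtain ⟨⟨a, s⟩, has⟩ := IsLocalization.surj M d
    have hs : IsUnit (algebraMap D₁ y₁.ResidueField (algebraMap D D₁ s)) :=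
      (IsLocalization.map_units D₁ s).map _
    have := congrArg (algebraMap D₁ y₁.ResidueField) has
    rw [map_mul] at this
    rw [eq_div_iff_mul_eq hs.ne_zero |>.mpr this]
    exact F.div_mem (hbase a) (hbase s)
  intro z
  obtain ⟨a, b, -, rfl⟩ := IsFractionRing.div_surjective (A := D₁ ⧸ y₁) z
  obtain ⟨a, rfl⟩ := Ideal.Quotient.mk_surjective a
  obtain ⟨b, rfl⟩ := Ideal.Quotient.mk_surjective b
  exact F.div_mem (hD a) (hD b)

variable {R R₁ : Type u} [CommRing R] [CommRing R₁] [Algebra R D] [Algebra R₁ D₁] [Algebra R R₁]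
  [Algebra R D₁] [IsScalarTower R R₁ D₁] [IsScalarTower R D D₁] (M₀ : Submonoid R)
  [IsLocalization M₀ R₁] (p : Ideal R) [p.IsPrime] (p₁ : Ideal R₁) [p₁.IsPrime] [p₁.LiesOver p]
  [hyp : y.LiesOver p] [hy₁ : y₁.LiesOver p₁]

include M M₀ in
theorem purelyTranscendental_of_isLocalization (h : FlatCA.PurelyTranscendental p y) :
    FlatCA.PurelyTranscendental p₁ y₁ := by
  let := (Ideal.ResidueField.mapₐ p y (Algebra.ofId R D) hyp.over).toRingHom.toAlgebra
  let := (Ideal.ResidueField.mapₐ p₁ y₁ (Algebra.ofId R₁ D₁) hy₁.over).toRingHom.toAlgebra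
  refine purelyTransc_transfer (RingEquiv.ofBijective (residueMap R p R₁ p₁).toRingHom
    (residueMap_bijective_of_isLocalization M₀ p p₁))
    (RingEquiv.ofBijective (residueMap D y D₁ y₁).toRingHom
      (residueMap_bijective_of_isLocalization M y y₁)) ?_ h
  exact Ideal.ResidueField.ringHom_ext <| RingHom.ext fun x => by
    simp [residueMap, RingHom.algebraMap_toAlgebra, -IsScalarTower.algebraMap_apply]

end Residue

section Smooth

variable {R D R₁ D₁ : Type u} [CommRing R] [CommRing D] [CommRing R₁] [CommRing D₁] [Algebra R D]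
  [Algebra R₁ D₁] [Algebra R R₁] [Algebra R D₁] [Algebra D D₁] [IsScalarTower R R₁ D₁]
  [IsScalarTower R D D₁] (g : R) [IsLocalization.Away g R₁] (h : D) [IsLocalization.Away h D₁]

include g h in
theorem exists_pullbackLift :
    let φ := Spec.map (CommRingCat.ofHom (algebraMap R D))
    let ι := Spec.map (CommRingCat.ofHom (algebraMap R R₁))
    IsOpenImmersion ι ∧ ∃ j : Spec (CommRingCat.of D₁) ⟶ pullback φ ι,
      IsOpenImmersion j ∧ j ≫ pullback.snd φ ι = Spec.map (CommRingCat.ofHom (algebraMap R₁ D₁)) := by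
  intro φ ι
  have : IsOpenImmersion ι := IsOpenImmersion.of_isLocalization g
  have : IsOpenImmersion (Spec.map (CommRingCat.ofHom (algebraMap D D₁))) :=
    IsOpenImmersion.of_isLocalization h
  refine ⟨inferInstance, pullback.lift (Spec.map (CommRingCat.ofHom (algebraMap D D₁)))
    (Spec.map (CommRingCat.ofHom (algebraMap R₁ D₁))) ?_, ?_, pullback.lift_snd _ _ _⟩
  · rw [← Spec.map_comp, ← Spec.map_comp]
    congr 1
    ext x
    exact (IsScalarTower.algebraMap_apply R D D₁ x).symm.trans
      (IsScalarTower.algebraMap_apply R R₁ D₁ x)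
  · have : IsOpenImmersion (pullback.lift (f := φ) (g := ι)
        (Spec.map (CommRingCat.ofHom (algebraMap D D₁)))
        (Spec.map (CommRingCat.ofHom (algebraMap R₁ D₁))) (by
          rw [← Spec.map_comp, ← Spec.map_comp]
          congr 1
          ext x
          exact (IsScalarTower.algebraMap_apply R D D₁ x).symm.trans
            (IsScalarTower.algebraMap_apply R R₁ D₁ x)) ≫ pullback.fst φ ι) := by
      rw [pullback.lift_fst]; assumption
    exact IsOpenImmersion.of_comp _ (pullback.fst φ ι)

include g h in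
theorem smoothRelDim_localization (n : ℕ) (hs : FlatCA.SmoothRelDim n R D) :
    FlatCA.SmoothRelDim n R₁ D₁ := by
  obtain ⟨hι, j, hj, hjs⟩ := exists_pullbackLift (R := R) (D := D) (R₁ := R₁) (D₁ := D₁) g h
  have := smoothOfRelativeDimension_isStableUnderBaseChange n
  have : SmoothOfRelativeDimension n (pullback.snd (Spec.map (CommRingCat.ofHom (algebraMap R D)))
      (Spec.map (CommRingCat.ofHom (algebraMap R R₁)))) := MorphismProperty.pullback_snd _ _ hs
  show SmoothOfRelativeDimension n _
  rw [← hjs, ← Nat.zero_add n]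
  exact smoothOfRelativeDimension_comp 0 n j _

include g h in
theorem geomIrredFibres_localization (hgi : FlatCA.GeomIrredFibres R D)
    (hs : Function.Surjective (PrimeSpectrum.comap (algebraMap R₁ D₁))) :
    FlatCA.GeomIrredFibres R₁ D₁ := by
  obtain ⟨hι, j, hj, hjs⟩ := exists_pullbackLift (R := R) (D := D) (R₁ := R₁) (D₁ := D₁) g h
  have : GeometricallyIrreducible (Spec.map (CommRingCat.ofHom (algebraMap R D))) := hgi
  have : Surjective (j ≫ pullback.snd (Spec.map (CommRingCat.ofHom (algebraMap R D)))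
      (Spec.map (CommRingCat.ofHom (algebraMap R R₁)))) := by
    rw [hjs]
    exact ⟨hs⟩
  show GeometricallyIrreducible _
  rw [← hjs]
  infer_instance

end Smooth

end Groth.Agent.H8Props.Devissage
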