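import Groth.Agent.H8Props.Devissage.Shrink
import Groth.Agent.H02CA.SmoothRegular

/-!
# The pieces of a complete dévissage under base change
-/

set_option autoImplicit false

universe u

open TensorProduct CategoryTheory AlgebraicGeometry

attribute [local instance] Algebra.TensorProduct.rightAlgebra

namespace Groth.Agent.H8Props.Devissage

section Prime

variable (R B : Type u) [CommRing R] [CommRing B] [Algebra R B] [Algebra.Smooth R B]
  (p : Ideal R) [p.IsPrime]

/-- The fibre of a smooth algebra with geometrically irreducible fibres is a domain. -/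
theorem isDomain_fibre (h : FlatCA.GeomIrredFibres R B) : IsDomain (p.Fiber B) := by
  have : IsReduced (p.Fiber B) := H02CA.isReduced_of_smooth p.ResidueField (p.Fiber B)
  have hgi : GeometricallyIrreducible (Spec.map (CommRingCat.ofHom (algebraMap R B))) := h
  have : IrreducibleSpace (Spec (CommRingCat.of (p.Fiber B))) :=
    hgi.geometrically_irreducibleSpace (K := p.ResidueField)
      (Spec.map (CommRingCat.ofHom (algebraMap R p.ResidueField))) _ _
      (isPullback_spec R p.ResidueField B (p.Fiber B))
  have : IrreducibleSpace (PrimeSpectrum (p.Fiber B)) := this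
  have hn : (nilradical (p.Fiber B)).IsPrime := PrimeSpectrum.irreducibleSpace_iff_isPrime_nilradical.mp this
  rw [nilradical_eq_zero] at hn
  exact IsDomain.of_bot_isPrime _

/-- The ideal generated by `p` is the kernel of the map to the fibre. -/
theorem comap_bot_fibre : (⊥ : Ideal (p.Fiber B)).comap (algebraMap B (p.Fiber B)) =
    p.map (algebraMap R B) := by
  refine le_antisymm (fun x hx => ?_) (Ideal.map_le_iff_le_comap.mpr fun r hr => ?_)
  · let j : R ⧸ p →ₗ[R] p.ResidueField :=
      (IsScalarTower.toAlgHom R (R ⧸ p) p.ResidueField).toLinearMap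
    have hj : Function.Injective j := IsFractionRing.injective (R ⧸ p) p.ResidueField
    have hinj : Function.Injective (j.lTensor B) :=
      Module.Flat.lTensor_preserves_injective_linearMap j hj
    have h0 : j.lTensor B (x ⊗ₜ[R] (1 : R ⧸ p)) = 0 := by
      rw [LinearMap.lTensor_tmul, show j 1 = 1 from map_one (IsScalarTower.toAlgHom R (R ⧸ p) p.ResidueField)]
      apply (TensorProduct.comm R B p.ResidueField).injective
      rw [map_zero]
      exact hx
    rw [← Ideal.Quotient.eq_zero_iff_mem]
    apply (Algebra.TensorProduct.quotIdealMapEquivTensorQuot B p).injective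
    rw [map_zero]
    exact hinj (h0.trans (map_zero _).symm)
  · rw [Ideal.mem_comap, Ideal.mem_comap, ← IsScalarTower.algebraMap_apply, Ideal.mem_bot,
      IsScalarTower.algebraMap_apply R p.ResidueField (p.Fiber B),
      Ideal.algebraMap_residueField_eq_zero.mpr hr, map_zero]

/-- `pB` is prime. -/
theorem isPrime_map (h : FlatCA.GeomIrredFibres R B) : (p.map (algebraMap R B)).IsPrime := by
  have := isDomain_fibre R B p h
  rw [← comap_bot_fibre]
  exact Ideal.comap_isPrime _ _

theorem liesOver_map (h : FlatCA.GeomIrredFibres R B) : (p.map (algebraMap R B)).LiesOver p := by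
  have := isDomain_fibre R B p h
  exact ⟨by rw [← comap_bot_fibre]; exact ((⊥ : Ideal (p.Fiber B)).comap (algebraMap B (p.Fiber B)) |>.over_def p).trans rfl⟩

end Prime

section MapPrime

variable {R B R' B' : Type u} [CommRing R] [CommRing B] [CommRing R'] [CommRing B'] [Algebra R B]
  [Algebra R' B'] [Algebra R R'] [Algebra R B'] [Algebra B B'] [IsScalarTower R R' B']
  [IsScalarTower R B B'] [Algebra.IsPushout R R' B B'] [Algebra.Smooth R B] [Algebra.Smooth R' B']
  (p : Ideal R) [p.IsPrime] (p' : Ideal R') [p'.IsPrime] [p'.LiesOver p]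

/-- The generic point of the fibre upstairs maps to the generic point downstairs. -/
theorem map_liesOver_map : (p'.map (algebraMap R' B')).LiesOver (p.map (algebraMap R B)) := by
  let := (residueMap R p R' p').toRingHom.toAlgebra
  let := (fibreMap R B p R' p' B').toRingHom.toAlgebra
  have := isScalarTower_fibre R B p R' p' B' (fun _ => rfl) (fun _ => rfl)
  have := isPushout_fibre R B p R' p' B' (fun _ => rfl) (fun _ => rfl)
  have : Module.FaithfullyFlat (p.Fiber B) (p'.Fiber B') :=
    Module.FaithfullyFlat.of_linearEquiv _ _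
      (Algebra.IsPushout.equiv p.ResidueField (p.Fiber B) p'.ResidueField (p'.Fiber B')
        (h := Algebra.IsPushout.symm inferInstance)).toLinearEquiv.symm
  have hinj : Function.Injective (fibreMap R B p R' p' B') :=
    FaithfulSMul.algebraMap_injective (p.Fiber B) (p'.Fiber B')
  refine ⟨?_⟩
  rw [← comap_bot_fibre R B p, ← comap_bot_fibre R' B' p', Ideal.under_def, Ideal.comap_comap]
  ext x
  simp only [Ideal.mem_comap, Ideal.mem_bot, RingHom.comp_apply]
  rw [← fibreMap_algebraMap R B p R' p' B' x]
  exact (map_eq_zero_iff _ hinj).symm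

end MapPrime

section BaseChange

variable {B A B' A' : Type u} [CommRing B] [CommRing A] [CommRing B'] [CommRing A'] [Algebra B A]
  [Algebra B B'] [Algebra B' A'] [Algebra A A'] [Algebra B A'] [IsScalarTower B B' A']
  [IsScalarTower B A A'] [Algebra.IsPushout B B' A A']
  {M M' : Type u} [AddCommGroup M] [Module A M] [Module B M] [IsScalarTower B A M]
  [AddCommGroup M'] [Module A' M'] [Module A M'] [IsScalarTower A A' M'] [Module B' M']
  [IsScalarTower B' A' M'] [Module B M'] [IsScalarTower B B' M'] [IsScalarTower B A M']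

/-- A base change of rings gives a base change of modules. -/
theorem isBaseChange_restrict {g : M →ₗ[A] M'} (hg : IsBaseChange A' g) :
    IsBaseChange B' (g.restrictScalars B) :=
  IsBaseChange.of_equiv
    ((Algebra.IsPushout.cancelBaseChange B B' A A' M).symm ≪≫ₗ hg.equiv.restrictScalars B')
    fun x => by
      simp [hg.equiv_tmul, Algebra.IsPushout.cancelBaseChange_symm_tmul]

end BaseChange

section Coker

variable {B B' : Type u} [CommRing B] [CommRing B'] [Algebra B B'] {M M₂ M' M₂' : Type u}
  [AddCommGroup M] [Module B M] [AddCommGroup M₂] [Module B M₂] [AddCommGroup M'] [Module B' M']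
  [Module B M'] [IsScalarTower B B' M'] [AddCommGroup M₂'] [Module B' M₂'] [Module B M₂']
  [IsScalarTower B B' M₂'] {g : M →ₗ[B] M'} {g₂ : M₂ →ₗ[B] M₂'}

/-- Cokernels commute with base change. -/
theorem nonempty_coker_equiv (hg : IsBaseChange B' g) (hg₂ : IsBaseChange B' g₂) (N : Submodule B M)
    (e : (M ⧸ N) ≃ₗ[B] M₂) (N' : Submodule B' M') (hN' : N' = Submodule.span B' (g '' (N : Set M))) :
    Nonempty ((M' ⧸ N') ≃ₗ[B'] M₂') := by
  let π₀ : M →ₗ[B] M₂' := g₂ ∘ₗ e.toLinearMap ∘ₗ N.mkQ
  let π : M' →ₗ[B'] M₂' := hg.lift π₀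
  have hπ (m : M) : π (g m) = g₂ (e (N.mkQ m)) := hg.lift_eq π₀ m
  have hle : N' ≤ LinearMap.ker π := by
    rw [hN', Submodule.span_le]
    rintro _ ⟨m, hm, rfl⟩
    show π (g m) = 0
    rw [hπ, (Submodule.Quotient.mk_eq_zero N).mpr hm |> fun h => show N.mkQ m = 0 from h, map_zero,
      map_zero]
  let π' : (M' ⧸ N') →ₗ[B'] M₂' := N'.liftQ π hle
  let σ₀ : (M ⧸ N) →ₗ[B] (M' ⧸ N') :=
    N.liftQ ((N'.mkQ.restrictScalars B) ∘ₗ g) fun m hm => by
      show N'.mkQ (g m) = 0
      rw [Submodule.mkQ_apply, Submodule.Quotient.mk_eq_zero, hN']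
      exact Submodule.subset_span ⟨m, hm, rfl⟩
  let σ : M₂' →ₗ[B'] (M' ⧸ N') := hg₂.lift (σ₀ ∘ₗ e.symm.toLinearMap)
  refine ⟨LinearEquiv.ofLinearMap π' σ (hg₂.algHom_ext _ _ fun m => ?_)
    (Submodule.linearMap_qext N' (hg.algHom_ext _ _ fun m => ?_))⟩
  · obtain ⟨q, rfl⟩ := e.surjective m
    obtain ⟨m, rfl⟩ := N.mkQ_surjective q
    show π' (σ (g₂ (e (N.mkQ m)))) = _
    rw [hg₂.lift_eq]
    show π' (σ₀ (e.symm (e (N.mkQ m)))) = _
    rw [e.symm_apply_apply]
    exact hπ m
  · show σ (π (g m)) = N'.mkQ (g m)
    rw [hπ, hg₂.lift_eq]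
    show σ₀ (e.symm (e (N.mkQ m))) = _
    rw [e.symm_apply_apply]
    rfl

variable (r : ℕ) (α : (Fin r → B) →ₗ[B] M)

/-- The map from a free module induced by base change. -/
noncomputable def baseChangeFree (g : M →ₗ[B] M') : (Fin r → B') →ₗ[B'] M' :=
  (Pi.basisFun B' (Fin r)).constr B' fun j => g (α (Pi.basisFun B (Fin r) j))

theorem range_baseChangeFree :
    LinearMap.range (baseChangeFree r α g (B' := B')) =
      Submodule.span B' (g '' (LinearMap.range α : Set M)) := by
  rw [baseChangeFree, Module.Basis.constr_range]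
  refine le_antisymm (Submodule.span_mono ?_) (Submodule.span_le.mpr ?_)
  · rintro _ ⟨j, rfl⟩
    exact ⟨_, ⟨_, rfl⟩, rfl⟩
  · rintro _ ⟨_, ⟨c, rfl⟩, rfl⟩
    rw [← (Pi.basisFun B (Fin r)).sum_repr c, map_sum, map_sum]
    refine Submodule.sum_mem _ fun j _ => ?_
    rw [map_smul, map_smul, ← algebraMap_smul B' ((Pi.basisFun B (Fin r)).repr c j)]
    exact Submodule.smul_mem _ _ (Submodule.subset_span ⟨j, rfl⟩)

theorem surjective_baseChangeFree (hg : IsBaseChange B' g) (hα : Function.Surjective α) :
    Function.Surjective (baseChangeFree r α g (B' := B')) := by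
  rw [← LinearMap.range_eq_top, range_baseChangeFree, LinearMap.range_eq_top.mpr hα,
    Submodule.top_coe, Set.image_univ, eq_top_iff]
  intro x hx
  clear hx
  induction x using hg.inductionOn with
  | zero => simp
  | tmul m => exact Submodule.subset_span ⟨m, rfl⟩
  | smul s x hx => exact Submodule.smul_mem _ _ hx
  | add a b ha hb => exact Submodule.add_mem _ ha hb

/-- Bijectivity on the fibre at a prime is inherited by the base change. -/
theorem bijective_baseChangeFree (hg : IsBaseChange B' g) (P : Ideal B) [P.IsPrime]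
    (P' : Ideal B') [P'.IsPrime] [P'.LiesOver P]
    (hα : Function.Bijective (α.baseChange P.ResidueField)) :
    Function.Bijective ((baseChangeFree r α g (B' := B')).baseChange P'.ResidueField) := by
  let := (residueMap B P B' P').toRingHom.toAlgebra
  have : IsScalarTower B P.ResidueField P'.ResidueField :=
    IsScalarTower.of_algebraMap_eq fun x => ((residueMap B P B' P').commutes x).symm
  let b₀ := ((Pi.basisFun B (Fin r)).baseChange P.ResidueField).map (LinearEquiv.ofBijective _ hα)
  let Φ : P'.ResidueField ⊗[P.ResidueField] (P.ResidueField ⊗[B] M) ≃ₗ[P'.ResidueField]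
      P'.ResidueField ⊗[B'] M' :=
    AlgebraTensorModule.cancelBaseChange B P.ResidueField P'.ResidueField P'.ResidueField M ≪≫ₗ
      (AlgebraTensorModule.cancelBaseChange B B' P'.ResidueField P'.ResidueField M).symm ≪≫ₗ
      AlgebraTensorModule.congr (LinearEquiv.refl _ _) hg.equiv
  let b₁ := (b₀.baseChange P'.ResidueField).map Φ
  have key : (baseChangeFree r α g (B' := B')).baseChange P'.ResidueField =
      (((Pi.basisFun B' (Fin r)).baseChange P'.ResidueField).equiv b₁ (Equiv.refl _)).toLinearMap := by
    refine ((Pi.basisFun B' (Fin r)).baseChange P'.ResidueField).ext fun j => ?_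
    rw [LinearEquiv.coe_coe, Module.Basis.equiv_apply, Module.Basis.baseChange_apply,
      LinearMap.baseChange_tmul, baseChangeFree, Module.Basis.constr_basis]
    simp [b₁, b₀, Φ, hg.equiv_tmul]
  rw [key]
  exact LinearEquiv.bijective _

end Coker

end Groth.Agent.H8Props.Devissage
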