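import Groth.Agent.H8Props.Devissage.BaseChange
import Mathlib.RingTheory.AlgebraicIndependent.Basic
import Mathlib.RingTheory.AlgebraicIndependent.TranscendenceBasis
import Mathlib.FieldTheory.IntermediateField.Adjoin.Basic
import Mathlib.Topology.KrullDimension

/-!
# Points of one-step dévissages under base change without residue field extension
-/

set_option autoImplicit false

universe u v

open TensorProduct

attribute [local instance] Algebra.TensorProduct.rightAlgebra

namespace Groth.Agent.H8Props.Devissage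

theorem localDim_le_of_homeomorph {X Y : Type*} [TopologicalSpace X] [TopologicalSpace Y]
    (e : X ≃ₜ Y) (x : X) : FlatMor.localDim Y (e x) ≤ FlatMor.localDim X x := by
  refine le_iInf fun U => (iInf_le _ ⟨⟨e '' (U.1 : Set X), e.isOpenMap _ U.1.2⟩, x, U.2, rfl⟩).trans ?_
  exact (IsHomeomorph.topologicalKrullDim_eq _ (e.image (U.1 : Set X)).isHomeomorph).ge

theorem localDim_homeomorph {X Y : Type*} [TopologicalSpace X] [TopologicalSpace Y]
    (e : X ≃ₜ Y) (x : X) : FlatMor.localDim Y (e x) = FlatMor.localDim X x := by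
  refine le_antisymm (localDim_le_of_homeomorph e x) ?_
  simpa using localDim_le_of_homeomorph e.symm (e x)

section Fibre

variable {R S : Type u} [CommRing R] [CommRing S] [Algebra R S] (p : Ideal R) [p.IsPrime]

/-- Ideals of the fibre are extended. -/
theorem fiberIdeal_comap (P : Ideal (p.Fiber S)) :
    FlatCA.fiberIdeal p (P.comap (algebraMap S (p.Fiber S))) = P := by
  refine le_antisymm (Ideal.map_comap_le) fun x hx => ?_
  obtain ⟨r, hr, s, e⟩ := Ideal.Fiber.exists_smul_eq_one_tmul p x
  have hu : IsUnit (algebraMap R (p.Fiber S) r) := by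
    rw [IsScalarTower.algebraMap_apply R p.ResidueField (p.Fiber S)]
    refine (IsUnit.mk0 _ ?_).map _
    exact fun h => hr (Ideal.algebraMap_residueField_eq_zero.mp h)
  have hs : (1 : p.ResidueField) ⊗ₜ[R] s ∈ P := by
    rw [← e, Algebra.smul_def]
    exact P.mul_mem_left _ hx
  have : algebraMap R (p.Fiber S) r * x ∈ FlatCA.fiberIdeal p (P.comap (algebraMap S (p.Fiber S))) := by
    rw [← Algebra.smul_def, e]
    exact Ideal.mem_map_of_mem _ (Ideal.mem_comap.mpr hs)
  rwa [Ideal.unit_mul_mem_iff_mem _ hu] at this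

variable (q : Ideal S) [q.IsPrime] [hq : q.LiesOver p]

theorem exists_comap_eq : ∃ P : PrimeSpectrum (p.Fiber S),
    P.asIdeal.comap (algebraMap S (p.Fiber S)) = q := by
  let x : PrimeSpectrum.comap (algebraMap R S) ⁻¹' {⟨p, inferInstance⟩} :=
    ⟨⟨q, inferInstance⟩, PrimeSpectrum.ext hq.over.symm⟩
  refine ⟨PrimeSpectrum.preimageEquivFiber R S ⟨p, inferInstance⟩ x, ?_⟩
  exact congrArg (fun y => y.1.asIdeal)
    ((PrimeSpectrum.preimageEquivFiber R S ⟨p, inferInstance⟩).symm_apply_apply x)

theorem isPrime_fiberIdeal : (FlatCA.fiberIdeal p q).IsPrime := by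
  obtain ⟨P, hP⟩ := exists_comap_eq p q
  rw [← hP, fiberIdeal_comap]
  exact P.isPrime

theorem comap_fiberIdeal : (FlatCA.fiberIdeal p q).comap (algebraMap S (p.Fiber S)) = q := by
  obtain ⟨P, hP⟩ := exists_comap_eq p q
  conv_rhs => rw [← hP]
  conv_lhs => rw [← hP, fiberIdeal_comap]

end Fibre

section BaseChange

variable {R S : Type u} [CommRing R] [CommRing S] [Algebra R S] {p : Ideal R} [p.IsPrime]
  {R' : Type u} [CommRing R'] [Algebra R R'] {p' : Ideal R'} [p'.IsPrime] [hp : p'.LiesOver p]
  {S' : Type u} [CommRing S'] [Algebra R' S'] [Algebra R S'] [Algebra S S']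
  [IsScalarTower R R' S'] [IsScalarTower R S S'] [Algebra.IsPushout R R' S S']

/-- Without residue field extension, a prime downstairs has one prime over it in a given fibre. -/
theorem unique_prime (hκ : Function.Bijective (residueMap R p R' p')) (q : Ideal S)
    (q₁ q₂ : Ideal S') [q₁.IsPrime] [q₁.LiesOver q] [q₁.LiesOver p'] [q₂.IsPrime] [q₂.LiesOver q]
    [q₂.LiesOver p'] : q₁ = q₂ := by
  obtain ⟨P₁, h₁⟩ := exists_comap_eq p' q₁
  obtain ⟨P₂, h₂⟩ := exists_comap_eq p' q₂
  have hc (P : PrimeSpectrum (p'.Fiber S')) :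
      (P.asIdeal.comap (fibreMap R S p R' p' S').toRingHom).comap (algebraMap S (p.Fiber S)) =
        (P.asIdeal.comap (algebraMap S' (p'.Fiber S'))).comap (algebraMap S S') := by
    rw [Ideal.comap_comap, Ideal.comap_comap]
    congr 1
    exact RingHom.ext fun s => fibreMap_algebraMap R S p R' p' S' s
  have h : P₁.asIdeal.comap (fibreMap R S p R' p' S').toRingHom =
      P₂.asIdeal.comap (fibreMap R S p R' p' S').toRingHom := by
    rw [← fiberIdeal_comap p (P₁.asIdeal.comap _), ← fiberIdeal_comap p (P₂.asIdeal.comap _), hc,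
      hc, h₁, h₂]
    exact congrArg (FlatCA.fiberIdeal p)
      ((Ideal.LiesOver.over (P := q₁) (p := q)).symm.trans (Ideal.LiesOver.over (P := q₂) (p := q)))
  rw [← h₁, ← h₂, Ideal.comap_injective_of_surjective _
    (fibreMap_bijective R S p R' p' S' hκ).2 h]

/-- The local dimension of the support of the fibre module at a point, transported. -/
theorem exists_localDim_eq (hκ : Function.Bijective (residueMap R p R' p')) {N : Type u}
    [AddCommGroup N] [Module S N] [Module R N] [IsScalarTower R S N] [Module.Finite S N]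
    {N' : Type u} [AddCommGroup N'] [Module S' N'] [Module R' N'] [IsScalarTower R' S' N']
    [Module S N'] [IsScalarTower S S' N'] {f : N →ₗ[S] N'} (hf : IsBaseChange S' f)
    (q : Ideal S) [q.IsPrime] [q.LiesOver p] (q' : Ideal S') [q'.IsPrime] [q'.LiesOver q]
    [q'.LiesOver p'] {d : WithBot ℕ∞}
    (h : ∃ (ξ : PrimeSpectrum (p.Fiber S)) (hξ : ξ ∈ Module.support (p.Fiber S) (FlatCA.fiberMod p S N)),
      ξ.asIdeal = FlatCA.fiberIdeal p q ∧
      FlatMor.localDim (Module.support (p.Fiber S) (FlatCA.fiberMod p S N)) ⟨ξ, hξ⟩ = d) :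
    ∃ (ξ' : PrimeSpectrum (p'.Fiber S'))
      (hξ' : ξ' ∈ Module.support (p'.Fiber S') (FlatCA.fiberMod p' S' N')),
      ξ'.asIdeal = FlatCA.fiberIdeal p' q' ∧
      FlatMor.localDim (Module.support (p'.Fiber S') (FlatCA.fiberMod p' S' N')) ⟨ξ', hξ'⟩ = d := by
  obtain ⟨ξ, hξ, hξq, rfl⟩ := h
  let e : p.Fiber S ≃+* p'.Fiber S' :=
    RingEquiv.ofBijective (fibreMap R S p R' p' S').toRingHom (fibreMap_bijective R S p R' p' S' hκ)
  let h₀ := (PrimeSpectrum.homeomorphOfRingEquiv e).symm
  have hh (P : PrimeSpectrum (p'.Fiber S')) :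
      h₀ P = PrimeSpectrum.comap (fibreMap R S p R' p' S').toRingHom P := rfl
  let q₀ : PrimeSpectrum (p'.Fiber S') := ⟨FlatCA.fiberIdeal p' q', isPrime_fiberIdeal p' q'⟩
  have hq₀ : h₀ q₀ = ξ := PrimeSpectrum.ext <| by
    rw [hξq, hh]
    show (FlatCA.fiberIdeal p' q').comap (fibreMap R S p R' p' S').toRingHom = _
    rw [← fiberIdeal_comap p ((FlatCA.fiberIdeal p' q').comap _)]
    congr 1
    rw [Ideal.comap_comap, Ideal.LiesOver.over (P := q') (p := q)]
    show _ = (q'.comap (algebraMap S S'))
    conv_rhs => rw [← comap_fiberIdeal p' q', Ideal.comap_comap]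
    congr 1
    exact RingHom.ext fun s => fibreMap_algebraMap R S p R' p' S' s
  have hsupp := support_fiberMod_baseChange R S p R' p' S' N N' hf
  have hmem : q₀ ∈ Module.support (p'.Fiber S') (FlatCA.fiberMod p' S' N') := by
    rw [hsupp, Set.mem_preimage, ← hh, hq₀]
    exact hξ
  refine ⟨q₀, hmem, rfl, ?_⟩
  let h₁ : Module.support (p'.Fiber S') (FlatCA.fiberMod p' S' N') ≃ₜ
      Module.support (p.Fiber S) (FlatCA.fiberMod p S N) := h₀.subtype fun P => by
    rw [hsupp]
    rfl
  rw [← localDim_homeomorph h₁ ⟨q₀, hmem⟩]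
  exact congrArg (FlatMor.localDim _) (Subtype.ext hq₀)

end BaseChange

section PureTransc

/-- Being generated by a transcendence basis is invariant under isomorphism. -/
theorem purelyTransc_transfer {k k' L L' : Type u} [Field k] [Field k'] [Field L] [Field L']
    [Algebra k L] [Algebra k' L'] (e : k ≃+* k') (E : L ≃+* L')
    (hc : (algebraMap k' L').comp e.toRingHom = E.toRingHom.comp (algebraMap k L))
    (h : ∃ (ι : Type u) (x : ι → L), IsTranscendenceBasis k x ∧
      IntermediateField.adjoin k (Set.range x) = ⊤) :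
    ∃ (ι : Type u) (x : ι → L'), IsTranscendenceBasis k' x ∧
      IntermediateField.adjoin k' (Set.range x) = ⊤ := by
  obtain ⟨ι, x, hx, hxt⟩ := h
  refine ⟨ι, E ∘ x, ⟨(algebraicIndependent_ringHom_iff_of_comp_eq e E.toRingHom E.injective hc).mpr hx.1,
    fun s hs hxs => ?_⟩, ?_⟩
  · have h2 : AlgebraicIndepOn k id (E ⁻¹' s) := by
      have h5 : AlgebraicIndependent k' (E.toRingHom ∘ fun y : ↥(E ⁻¹' s) => (y : L)) :=
        hs.comp (fun y : ↥(E ⁻¹' s) => (⟨E y.1, y.2⟩ : s))
          fun a b hab => Subtype.ext (E.injective (congrArg Subtype.val hab))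
      have h3 : AlgebraicIndependent k fun y : ↥(E ⁻¹' s) => (y : L) :=
        (algebraicIndependent_ringHom_iff_of_comp_eq (x := fun y : ↥(E ⁻¹' s) => (y : L))
          e E.toRingHom E.injective hc).mp h5
      exact h3
    have h4 := hx.2 _ h2 (by
      rintro _ ⟨i, rfl⟩
      exact hxs ⟨i, rfl⟩)
    rw [Set.range_comp, h4, Set.image_preimage_eq _ E.surjective]
  · refine IntermediateField.ext fun y => iff_of_true ?_ IntermediateField.mem_top
    obtain ⟨y, rfl⟩ := E.surjective y
    have hy : y ∈ IntermediateField.adjoin k (Set.range x) := hxt ▸ IntermediateField.mem_top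
    induction hy using IntermediateField.adjoin_induction with
    | mem z hz =>
      obtain ⟨i, rfl⟩ := hz
      exact IntermediateField.subset_adjoin _ _ ⟨i, rfl⟩
    | algebraMap c =>
      rw [show E (algebraMap k L c) = algebraMap k' L' (e c) from (RingHom.congr_fun hc c).symm]
      exact IntermediateField.algebraMap_mem _ _
    | add a b _ _ ha hb => rw [map_add]; exact add_mem ha hb
    | inv a _ ha => rw [map_inv₀]; exact inv_mem ha
    | mul a b _ _ ha hb => rw [map_mul]; exact mul_mem ha hb

variable {R D R' D' : Type u} [CommRing R] [CommRing D] [Algebra R D] [CommRing R'] [Algebra R R']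
  [CommRing D'] [Algebra R' D'] [Algebra R D'] [Algebra D D'] [IsScalarTower R R' D']
  [IsScalarTower R D D'] [Algebra.IsPushout R R' D D']
  {p : Ideal R} [p.IsPrime] {p' : Ideal R'} [p'.IsPrime] [hp : p'.LiesOver p]

/-- Without residue field extension on the base there is none at the points over it. -/
theorem residueMap_bijective (hκ : Function.Bijective (residueMap R p R' p')) (y : Ideal D)
    [y.IsPrime] [hyp : y.LiesOver p] (y' : Ideal D') [y'.IsPrime] [hy : y'.LiesOver y]
    [hy' : y'.LiesOver p'] : Function.Bijective (residueMap D y D' y') := by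
  refine ⟨(residueMap D y D' y').toRingHom.injective, ?_⟩
  let F : Subfield y'.ResidueField := (residueMap D y D' y').toRingHom.fieldRange
  have hR (r : R') : algebraMap D' y'.ResidueField (algebraMap R' D' r) ∈ F := by
    obtain ⟨c, hc⟩ := hκ.2 (algebraMap R' p'.ResidueField r)
    refine ⟨Ideal.ResidueField.mapₐ p y (Algebra.ofId R D) hyp.over c, ?_⟩
    let a := (residueMap D y D' y').toRingHom.comp
      (Ideal.ResidueField.mapₐ p y (Algebra.ofId R D) hyp.over).toRingHom
    let b := (Ideal.ResidueField.mapₐ p' y' (Algebra.ofId R' D') hy'.over).toRingHom.comp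
      (residueMap R p R' p').toRingHom
    have hab : a = b := Ideal.ResidueField.ringHom_ext <| RingHom.ext fun x => by
      simp [a, b, residueMap, -IsScalarTower.algebraMap_apply]
    refine (RingHom.congr_fun hab c).trans ?_
    show Ideal.ResidueField.mapₐ p' y' (Algebra.ofId R' D') hy'.over (residueMap R p R' p' c) = _
    rw [hc]
    simp [← IsScalarTower.algebraMap_apply]
  have hD (d : D') : algebraMap D' y'.ResidueField d ∈ F := by
    obtain ⟨x, rfl⟩ := (Algebra.IsPushout.equiv R R' D D').surjective d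
    induction x using TensorProduct.induction_on with
    | zero => simp
    | add a b ha hb => rw [map_add, map_add]; exact F.add_mem ha hb
    | tmul r d =>
      rw [Algebra.IsPushout.equiv_tmul, map_mul]
      refine F.mul_mem (hR r) ⟨algebraMap D y.ResidueField d, ?_⟩
      show residueMap D y D' y' (algebraMap D y.ResidueField d) = _
      rw [AlgHom.commutes, IsScalarTower.algebraMap_apply D D' y'.ResidueField]
  intro z
  obtain ⟨a, b, -, rfl⟩ := IsFractionRing.div_surjective (A := D' ⧸ y') z
  obtain ⟨a, rfl⟩ := Ideal.Quotient.mk_surjective a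
  obtain ⟨b, rfl⟩ := Ideal.Quotient.mk_surjective b
  exact F.div_mem (hD a) (hD b)

theorem purelyTranscendental_baseChange (hκ : Function.Bijective (residueMap R p R' p'))
    (y : Ideal D) [y.IsPrime] [hyp : y.LiesOver p] (y' : Ideal D') [y'.IsPrime] [hy : y'.LiesOver y]
    [hy' : y'.LiesOver p'] (h : FlatCA.PurelyTranscendental p y) :
    FlatCA.PurelyTranscendental p' y' := by
  let := (Ideal.ResidueField.mapₐ p y (Algebra.ofId R D) hyp.over).toRingHom.toAlgebra
  let := (Ideal.ResidueField.mapₐ p' y' (Algebra.ofId R' D') hy'.over).toRingHom.toAlgebra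
  refine purelyTransc_transfer (RingEquiv.ofBijective (residueMap R p R' p').toRingHom hκ)
    (RingEquiv.ofBijective (residueMap D y D' y').toRingHom (residueMap_bijective hκ y y')) ?_ h
  exact Ideal.ResidueField.ringHom_ext <| RingHom.ext fun x => by
    simp [residueMap, RingHom.algebraMap_toAlgebra, -IsScalarTower.algebraMap_apply]

end PureTransc

end Groth.Agent.H8Props.Devissage
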