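import Groth.Agent.H8Props.Devissage.FibreDim
import Mathlib.Algebra.Category.Ring.Constructions
import Mathlib.AlgebraicGeometry.Pullbacks

/-!
# Base change of one-step dévissages
-/

set_option autoImplicit false

universe u

open CategoryTheory CategoryTheory.Limits AlgebraicGeometry TensorProduct

namespace Groth.Agent.H8Props.Devissage

variable (R R' D D' : Type u) [CommRing R] [CommRing R'] [CommRing D] [CommRing D'] [Algebra R R']
  [Algebra R D] [Algebra R' D'] [Algebra R D'] [Algebra D D'] [IsScalarTower R R' D']
  [IsScalarTower R D D']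

theorem isPullback_spec [h : Algebra.IsPushout R R' D D'] :
    IsPullback (Spec.map (CommRingCat.ofHom (algebraMap D D')))
      (Spec.map (CommRingCat.ofHom (algebraMap R' D')))
      (Spec.map (CommRingCat.ofHom (algebraMap R D)))
      (Spec.map (CommRingCat.ofHom (algebraMap R R'))) :=
  have := Algebra.IsPushout.symm h
  isPullback_SpecMap_of_isPushout _ _ _ _ (CommRingCat.isPushout_of_isPushout R D R' D')

theorem geomIrredFibres_baseChange [Algebra.IsPushout R R' D D'] (h : FlatCA.GeomIrredFibres R D) :
    FlatCA.GeomIrredFibres R' D' :=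
  MorphismProperty.of_isPullback (P := @GeometricallyIrreducible) (isPullback_spec R R' D D') h

theorem smoothRelDim_baseChange [Algebra.IsPushout R R' D D'] (n : ℕ)
    (h : FlatCA.SmoothRelDim n R D) : FlatCA.SmoothRelDim n R' D' :=
  have := smoothOfRelativeDimension_isStableUnderBaseChange n
  MorphismProperty.of_isPullback (P := @SmoothOfRelativeDimension n) (isPullback_spec R R' D D') h

end Groth.Agent.H8Props.Devissage

namespace Groth.Agent.H8Props.Devissage

section OneStep

variable (R S C D R' S' C' D' : Type u) [CommRing R] [CommRing S] [CommRing C] [CommRing D]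
  [CommRing R'] [CommRing S'] [CommRing C'] [CommRing D']
  [Algebra R S] [Algebra S C] [Algebra R C] [IsScalarTower R S C] [Algebra R D] [Algebra D C]
  [IsScalarTower R D C] [Algebra R R']
  [Algebra R' S'] [Algebra R S'] [Algebra S S'] [IsScalarTower R R' S'] [IsScalarTower R S S']
  [Algebra.IsPushout R R' S S']
  [Algebra R' C'] [Algebra R C'] [Algebra C C'] [IsScalarTower R R' C'] [IsScalarTower R C C']
  [Algebra.IsPushout R R' C C']
  [Algebra S' C'] [IsScalarTower R' S' C'] [Algebra S C'] [IsScalarTower S S' C'] [IsScalarTower S C C']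

include R R' in
theorem isPushout_middle : Algebra.IsPushout S S' C C' := by
  have : IsScalarTower R S' C' := IsScalarTower.of_algebraMap_eq fun r => by
    rw [IsScalarTower.algebraMap_apply R R' S', ← IsScalarTower.algebraMap_apply R' S' C',
      ← IsScalarTower.algebraMap_apply R R' C']
  have : IsScalarTower R S C' := IsScalarTower.of_algebraMap_eq fun r => by
    rw [IsScalarTower.algebraMap_apply R C C', IsScalarTower.algebraMap_apply R S C,
      ← IsScalarTower.algebraMap_apply S C C']
  have h1 : Algebra.IsPushout R S R' S' := Algebra.IsPushout.symm inferInstance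
  have h2 : Algebra.IsPushout R C R' C' := Algebra.IsPushout.symm inferInstance
  exact ((Algebra.IsPushout.comp_iff (R := R) (S := S) (R' := R') (S' := S') (T := C) (T' := C')).mp
    h2).symm

include R R' in
theorem surjective_middle (h : Function.Surjective (algebraMap S C)) :
    Function.Surjective (algebraMap S' C') := by
  have := isPushout_middle R S C R' S' C'
  intro c
  obtain ⟨x, rfl⟩ := (Algebra.IsPushout.equiv S S' C C').surjective c
  induction x using TensorProduct.induction_on with
  | zero => exact ⟨0, by simp⟩
  | add x y hx hy =>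
    obtain ⟨a, ha⟩ := hx
    obtain ⟨b, hb⟩ := hy
    exact ⟨a + b, by rw [map_add, map_add, ha, hb]⟩
  | tmul s c =>
    obtain ⟨t, rfl⟩ := h c
    refine ⟨s * algebraMap S S' t, ?_⟩
    rw [Algebra.IsPushout.equiv_tmul, map_mul, ← IsScalarTower.algebraMap_apply S S' C',
      ← IsScalarTower.algebraMap_apply S C C']

include R R' in
theorem finitePresentation_middle [Algebra.FinitePresentation S C] :
    Algebra.FinitePresentation S' C' :=
  have := isPushout_middle R S C R' S' C'
  Algebra.FinitePresentation.equiv (Algebra.IsPushout.equiv S S' C C')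

include R R' in
theorem finite_middle [Module.Finite S C] : Module.Finite S' C' :=
  have := isPushout_middle R S C R' S' C'
  Module.Finite.equiv (Algebra.IsPushout.equiv S S' C C').toLinearEquiv

include R R' in
/-- `N' ≅ G'` for base changes of `N ≅ G`. -/
theorem nonempty_equiv_middle {N G : Type u} [AddCommGroup N] [Module S N] [AddCommGroup G]
    [Module C G] [Module S G] [IsScalarTower S C G] (e : N ≃ₗ[S] G) {N' G' : Type u}
    [AddCommGroup N'] [Module S' N'] [Module S N'] [IsScalarTower S S' N'] [AddCommGroup G']
    [Module C' G'] [Module S' G'] [IsScalarTower S' C' G'] [Module C G'] [IsScalarTower C C' G']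
    {f : N →ₗ[S] N'} (hf : IsBaseChange S' f) {g : G →ₗ[C] G'} (hg : IsBaseChange C' g) :
    Nonempty (N' ≃ₗ[S'] G') := by
  have := isPushout_middle R S C R' S' C'
  exact ⟨hf.equiv.symm ≪≫ₗ AlgebraTensorModule.congr (LinearEquiv.refl S' S') e ≪≫ₗ
    (Algebra.IsPushout.cancelBaseChange S S' C C' G).symm ≪≫ₗ hg.equiv.restrictScalars S'⟩

end OneStep

end Groth.Agent.H8Props.Devissage
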