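import Groth.Agent.H8Props.Devissage.Pieces

/-!
# The point of a base change over a point, without residue field extension
-/

set_option autoImplicit false

universe u

open TensorProduct

attribute [local instance] Algebra.TensorProduct.rightAlgebra

namespace Groth.Agent.H8Props.Devissage

variable {R S : Type u} [CommRing R] [CommRing S] [Algebra R S] {p : Ideal R} [p.IsPrime]
  {R' : Type u} [CommRing R'] [Algebra R R'] {p' : Ideal R'} [p'.IsPrime] [hp : p'.LiesOver p]
  {S' : Type u} [CommRing S'] [Algebra R' S'] [Algebra R S'] [Algebra S S']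
  [IsScalarTower R R' S'] [IsScalarTower R S S'] [Algebra.IsPushout R R' S S']

/-- A point downstairs has a point over it in the fibre upstairs. -/
theorem exists_prime_over (hκ : Function.Bijective (residueMap R p R' p')) (q : Ideal S) [q.IsPrime]
    [q.LiesOver p] : ∃ q' : Ideal S', q'.IsPrime ∧ q'.LiesOver q ∧ q'.LiesOver p' := by
  obtain ⟨P, hP⟩ := exists_comap_eq p q
  let e : p.Fiber S ≃+* p'.Fiber S' :=
    RingEquiv.ofBijective (fibreMap R S p R' p' S').toRingHom (fibreMap_bijective R S p R' p' S' hκ)
  let P' : PrimeSpectrum (p'.Fiber S') := PrimeSpectrum.comap e.symm.toRingHom P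
  refine ⟨P'.asIdeal.comap (algebraMap S' (p'.Fiber S')), inferInstance, ⟨?_⟩, ⟨?_⟩⟩
  · show q = (P'.asIdeal.comap (algebraMap S' (p'.Fiber S'))).comap (algebraMap S S')
    rw [← hP]
    show _ = ((P.asIdeal.comap e.symm.toRingHom).comap _).comap _
    rw [Ideal.comap_comap, Ideal.comap_comap]
    congr 1
    refine RingHom.ext fun s => e.injective ?_
    show fibreMap R S p R' p' S' (algebraMap S (p.Fiber S) s) = e (e.symm _)
    rw [e.apply_symm_apply, fibreMap_algebraMap]
    rfl
  · exact (P'.asIdeal.over_def p').trans (Ideal.under_under P'.asIdeal).symm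

/-- A prime over a point, restricted along a map into the algebra, is the point over its restriction. -/
theorem liesOver_of_unique (hκ : Function.Bijective (residueMap R p R' p')) {A : Type u} [CommRing A]
    [Algebra S' A] [Algebra S A] [Algebra R' A] [IsScalarTower S S' A] [IsScalarTower R' S' A]
    (q : Ideal S) (q' : Ideal S') [q'.IsPrime] [q'.LiesOver q] [q'.LiesOver p'] (z : Ideal A)
    [z.IsPrime] [z.LiesOver q] [z.LiesOver p'] : z.LiesOver q' := by
  have a : (z.under S').LiesOver q := ⟨(z.over_def q).trans (Ideal.under_under z).symm⟩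
  have b : (z.under S').LiesOver p' := ⟨(z.over_def p').trans (Ideal.under_under z).symm⟩
  exact ⟨(unique_prime (R := R) (p := p) hκ q (z.under S') q').symm⟩

end Groth.Agent.H8Props.Devissage
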