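import Groth.Agent.H8Props.Devissage.Pieces

/-!
# Base change of complete dévissages

The families of a complete dévissage run over all natural numbers but only constrain the steps below
the length. The base change is `R' ⊗ Aᵢ`, `R' ⊗ Bᵢ` below the length; beyond it the carrying rings
vanish and the smooth algebras become `R'/p'`, so that the primality field holds.
-/

set_option autoImplicit false

universe u

open TensorProduct

attribute [local instance] Algebra.TensorProduct.rightAlgebra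

namespace Groth.Agent.H8Props.Devissage.CBC

variable {R S : Type u} [CommRing R] [CommRing S] [Algebra R S] {N : Type u} [AddCommGroup N]
  [Module S N] {p : Ideal R} [p.IsPrime] (𝒟 : FlatCA.CompleteDevissage R S N p)
  (R' : Type u) [CommRing R'] [Algebra R R'] (p' : Ideal R')

open Classical in
/-- The ideal cutting out the ring of step `i`. -/
noncomputable def K (i : ℕ) : Ideal (R' × (R' ⊗[R] 𝒟.B i)) :=
  if i < 𝒟.n then Ideal.prod ⊤ ⊥ else Ideal.prod p' ⊤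

open Classical in
/-- The ideal cutting out the carrying ring of step `i`. -/
noncomputable def L (i : ℕ) : Ideal (R' ⊗[R] 𝒟.A i) :=
  if i < 𝒟.n then ⊥ else ⊤

/-- The smooth algebras. -/
def B' (i : ℕ) : Type u := (R' × (R' ⊗[R] 𝒟.B i)) ⧸ K 𝒟 R' p' i

noncomputable instance (i : ℕ) : CommRing (B' 𝒟 R' p' i) :=
  inferInstanceAs (CommRing ((R' × (R' ⊗[R] 𝒟.B i)) ⧸ K 𝒟 R' p' i))

noncomputable instance (i : ℕ) : Algebra R' (B' 𝒟 R' p' i) :=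
  inferInstanceAs (Algebra R' ((R' × (R' ⊗[R] 𝒟.B i)) ⧸ K 𝒟 R' p' i))

noncomputable instance (i : ℕ) : Algebra R (B' 𝒟 R' p' i) :=
  ((algebraMap R' (B' 𝒟 R' p' i)).comp (algebraMap R R')).toAlgebra

instance (i : ℕ) : IsScalarTower R R' (B' 𝒟 R' p' i) := IsScalarTower.of_algebraMap_eq fun _ => rfl

/-- The projection to the smooth algebra. -/
noncomputable def mkB (i : ℕ) : R' × (R' ⊗[R] 𝒟.B i) →ₐ[R'] B' 𝒟 R' p' i :=
  Ideal.Quotient.mkₐ R' (K 𝒟 R' p' i)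

theorem mkB_eq_iff {i : ℕ} {x y : R' × (R' ⊗[R] 𝒟.B i)} :
    mkB 𝒟 R' p' i x = mkB 𝒟 R' p' i y ↔ x - y ∈ K 𝒟 R' p' i := Ideal.Quotient.eq

/-- The carrying rings. -/
def A' (i : ℕ) : Type u := (R' ⊗[R] 𝒟.A i) ⧸ L 𝒟 R' i

noncomputable instance (i : ℕ) : CommRing (A' 𝒟 R' i) :=
  inferInstanceAs (CommRing ((R' ⊗[R] 𝒟.A i) ⧸ L 𝒟 R' i))

noncomputable instance (i : ℕ) : Algebra R' (A' 𝒟 R' i) :=
  inferInstanceAs (Algebra R' ((R' ⊗[R] 𝒟.A i) ⧸ L 𝒟 R' i))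

/-- The projection to the carrying ring. -/
noncomputable def mkA (i : ℕ) : R' ⊗[R] 𝒟.A i →ₐ[R'] A' 𝒟 R' i :=
  Ideal.Quotient.mkₐ R' (L 𝒟 R' i)

noncomputable instance (i : ℕ) : Algebra (𝒟.A i) (A' 𝒟 R' i) :=
  ((mkA 𝒟 R' i).toRingHom.comp (algebraMap (𝒟.A i) (R' ⊗[R] 𝒟.A i))).toAlgebra

noncomputable instance (i : ℕ) : Algebra R (A' 𝒟 R' i) :=
  ((algebraMap R' (A' 𝒟 R' i)).comp (algebraMap R R')).toAlgebra

instance (i : ℕ) : IsScalarTower R R' (A' 𝒟 R' i) := IsScalarTower.of_algebraMap_eq fun _ => rfl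

instance (i : ℕ) : IsScalarTower R (𝒟.A i) (A' 𝒟 R' i) :=
  IsScalarTower.of_algebraMap_eq fun r => by
    show algebraMap R' (A' 𝒟 R' i) (algebraMap R R' r) =
      mkA 𝒟 R' i (algebraMap (𝒟.A i) (R' ⊗[R] 𝒟.A i) (algebraMap R (𝒟.A i) r))
    rw [← IsScalarTower.algebraMap_apply R (𝒟.A i) (R' ⊗[R] 𝒟.A i),
      IsScalarTower.algebraMap_apply R R' (R' ⊗[R] 𝒟.A i), AlgHom.commutes]

/-- The modules. -/
abbrev M' (i : ℕ) : Type u := A' 𝒟 R' i ⊗[𝒟.A i] 𝒟.M i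

/-- The map to the carrying ring of the same step. -/
noncomputable def β (i : ℕ) : B' 𝒟 R' p' i →ₐ[R'] A' 𝒟 R' i :=
  Ideal.Quotient.liftₐ _ ((mkA 𝒟 R' i).comp
    ((Algebra.TensorProduct.map (AlgHom.id R' R') (IsScalarTower.toAlgHom R (𝒟.B i) (𝒟.A i))).comp
      (AlgHom.snd R' R' _))) fun x hx => by
    by_cases h : i < 𝒟.n
    · rw [K, if_pos h] at hx
      show mkA 𝒟 R' i (Algebra.TensorProduct.map (AlgHom.id R' R')
        (IsScalarTower.toAlgHom R (𝒟.B i) (𝒟.A i)) x.2) = 0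
      rw [show x.2 = 0 from hx.2, map_zero, map_zero]
    · refine Ideal.Quotient.eq_zero_iff_mem.mpr ?_
      rw [L, if_neg h]
      trivial

/-- The map to the carrying ring of the next step. -/
noncomputable def β' (i : ℕ) : B' 𝒟 R' p' i →ₐ[R'] A' 𝒟 R' (i + 1) :=
  Ideal.Quotient.liftₐ _ ((mkA 𝒟 R' (i + 1)).comp
    ((Algebra.TensorProduct.map (AlgHom.id R' R') (IsScalarTower.toAlgHom R (𝒟.B i) (𝒟.A (i + 1)))).comp
      (AlgHom.snd R' R' _))) fun x hx => by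
    by_cases h : i + 1 < 𝒟.n
    · rw [K, if_pos (Nat.lt_of_succ_lt h)] at hx
      show mkA 𝒟 R' (i + 1) (Algebra.TensorProduct.map (AlgHom.id R' R')
        (IsScalarTower.toAlgHom R (𝒟.B i) (𝒟.A (i + 1))) x.2) = 0
      rw [show x.2 = 0 from hx.2, map_zero, map_zero]
    · refine Ideal.Quotient.eq_zero_iff_mem.mpr ?_
      rw [L, if_neg h]
      trivial

noncomputable instance instAlgBA (i : ℕ) : Algebra (B' 𝒟 R' p' i) (A' 𝒟 R' i) :=
  (β 𝒟 R' p' i).toRingHom.toAlgebra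

noncomputable instance instAlgBA' (i : ℕ) : Algebra (B' 𝒟 R' p' i) (A' 𝒟 R' (i + 1)) :=
  (β' 𝒟 R' p' i).toRingHom.toAlgebra

instance (i : ℕ) : IsScalarTower R' (B' 𝒟 R' p' i) (A' 𝒟 R' i) :=
  IsScalarTower.of_algebraMap_eq fun r => ((β 𝒟 R' p' i).commutes r).symm

instance (i : ℕ) : IsScalarTower R' (B' 𝒟 R' p' i) (A' 𝒟 R' (i + 1)) :=
  IsScalarTower.of_algebraMap_eq fun r => ((β' 𝒟 R' p' i).commutes r).symm

/-- The natural maps of modules. -/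
noncomputable def g (i : ℕ) : 𝒟.M i →ₗ[𝒟.A i] M' 𝒟 R' i := TensorProduct.mk _ _ _ 1

theorem g_isBaseChange (i : ℕ) : IsBaseChange (A' 𝒟 R' i) (g 𝒟 R' i) :=
  TensorProduct.isBaseChange _ _ _

/-- The maps from free modules. -/
noncomputable def α' (i : ℕ) : (Fin (𝒟.r i) → B' 𝒟 R' p' i) →ₗ[B' 𝒟 R' p' i] M' 𝒟 R' i :=
  (Pi.basisFun (B' 𝒟 R' p' i) (Fin (𝒟.r i))).constr (B' 𝒟 R' p' i) fun j =>
    g 𝒟 R' i (𝒟.α i (Pi.basisFun (𝒟.B i) (Fin (𝒟.r i)) j))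

section Step

variable (i : Fin 𝒟.n)

theorem K_eq : K 𝒟 R' p' i = Ideal.prod ⊤ ⊥ := by rw [K, if_pos i.2]

theorem L_eq : L 𝒟 R' i = ⊥ := by rw [L, if_pos i.2]

/-- The map from the original smooth algebra. -/
noncomputable def ιB : 𝒟.B i →+* B' 𝒟 R' p' i where
  toFun b := mkB 𝒟 R' p' i (0, 1 ⊗ₜ b)
  map_one' := by
    rw [← map_one (mkB 𝒟 R' p' i), mkB_eq_iff, K_eq]
    exact ⟨trivial, by simp [Algebra.TensorProduct.one_def]⟩
  map_mul' a b := by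
    rw [← map_mul]
    simp
  map_zero' := by
    rw [← map_zero (mkB 𝒟 R' p' i)]
    simp [Prod.zero_eq_mk]
  map_add' a b := by
    rw [← map_add]
    simp [tmul_add]

noncomputable instance instAlgBB : Algebra (𝒟.B i) (B' 𝒟 R' p' i) := (ιB 𝒟 R' p' i).toAlgebra

theorem algebraMap_R (r : R) :
    algebraMap R (B' 𝒟 R' p' i) r = ιB 𝒟 R' p' i (algebraMap R (𝒟.B i) r) := by
  show mkB 𝒟 R' p' i (algebraMap R' (R' × (R' ⊗[R] 𝒟.B i)) (algebraMap R R' r)) = _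
  refine (mkB_eq_iff 𝒟 R' p').mpr ?_
  rw [K_eq]
  refine ⟨trivial, ?_⟩
  show algebraMap R' (R' ⊗[R] 𝒟.B i) (algebraMap R R' r) - 1 ⊗ₜ algebraMap R (𝒟.B i) r = 0
  rw [sub_eq_zero, Algebra.TensorProduct.algebraMap_apply, Algebra.algebraMap_self_apply,
    Algebra.algebraMap_eq_smul_one, Algebra.algebraMap_eq_smul_one, smul_tmul]

instance : IsScalarTower R (𝒟.B i) (B' 𝒟 R' p' i) :=
  IsScalarTower.of_algebraMap_eq (algebraMap_R 𝒟 R' p' i)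

/-- The smooth algebra of a step is the base change. -/
noncomputable def equivB : R' ⊗[R] 𝒟.B i ≃ₐ[R'] B' 𝒟 R' p' i :=
  AlgEquiv.ofBijective (Algebra.TensorProduct.lift (Algebra.ofId R' (B' 𝒟 R' p' i))
      (IsScalarTower.toAlgHom R (𝒟.B i) (B' 𝒟 R' p' i)) fun _ _ => Commute.all _ _) (by
    have key : ∀ x, Algebra.TensorProduct.lift (Algebra.ofId R' (B' 𝒟 R' p' i))
        (IsScalarTower.toAlgHom R (𝒟.B i) (B' 𝒟 R' p' i)) (fun _ _ => Commute.all _ _) x =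
        mkB 𝒟 R' p' i (0, x) := by
      intro x
      induction x using TensorProduct.induction_on with
      | zero => rw [map_zero, ← Prod.zero_eq_mk, map_zero]
      | add a b ha hb => rw [map_add, ha, hb, ← map_add]; simp
      | tmul r b =>
        rw [Algebra.TensorProduct.lift_tmul]
        show mkB 𝒟 R' p' i (algebraMap R' (R' × (R' ⊗[R] 𝒟.B i)) r) *
          mkB 𝒟 R' p' i (0, 1 ⊗ₜ b) = _
        rw [← map_mul]
        simp [Algebra.TensorProduct.algebraMap_apply]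
    constructor
    · intro x y hxy
      rw [key, key, mkB_eq_iff, K_eq] at hxy
      exact sub_eq_zero.mp hxy.2
    · intro z
      obtain ⟨⟨r, x⟩, rfl⟩ : ∃ w, mkB 𝒟 R' p' i w = z := Ideal.Quotient.mk_surjective z
      refine ⟨x, ?_⟩
      rw [key, mkB_eq_iff, K_eq]
      exact ⟨trivial, by simp⟩)

theorem isPushout_B : Algebra.IsPushout R R' (𝒟.B i) (B' 𝒟 R' p' i) :=
  ⟨IsBaseChange.of_equiv (equivB 𝒟 R' p' i).toLinearEquiv fun b => by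
    simp [equivB, Algebra.TensorProduct.lift_tmul]⟩

/-- The carrying ring of a step is the base change. -/
noncomputable def equivA : R' ⊗[R] 𝒟.A i ≃ₐ[R'] A' 𝒟 R' i :=
  AlgEquiv.ofBijective (mkA 𝒟 R' i)
    ⟨(RingHom.injective_iff_ker_eq_bot (mkA 𝒟 R' i).toRingHom).mpr
      (Ideal.mk_ker.trans (L_eq 𝒟 R' i)), Ideal.Quotient.mk_surjective⟩

theorem isPushout_A : Algebra.IsPushout R R' (𝒟.A i) (A' 𝒟 R' i) :=
  ⟨IsBaseChange.of_equiv (equivA 𝒟 R' i).toLinearEquiv fun _ => rfl⟩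

noncomputable instance instAlgBAi : Algebra (𝒟.B i) (A' 𝒟 R' i) :=
  ((algebraMap (𝒟.A i) (A' 𝒟 R' i)).comp (algebraMap (𝒟.B i) (𝒟.A i))).toAlgebra

instance : IsScalarTower (𝒟.B i) (𝒟.A i) (A' 𝒟 R' i) := IsScalarTower.of_algebraMap_eq fun _ => rfl

instance : IsScalarTower (𝒟.B i) (B' 𝒟 R' p' i) (A' 𝒟 R' i) :=
  IsScalarTower.of_algebraMap_eq fun _ => rfl

noncomputable instance instAlgBA'i : Algebra (𝒟.B i) (A' 𝒟 R' (i + 1)) :=
  ((algebraMap (𝒟.A (i + 1)) (A' 𝒟 R' (i + 1))).comp (algebraMap (𝒟.B i) (𝒟.A (i + 1)))).toAlgebra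

instance : IsScalarTower (𝒟.B i) (𝒟.A (i + 1)) (A' 𝒟 R' (i + 1)) :=
  IsScalarTower.of_algebraMap_eq fun _ => rfl

instance : IsScalarTower (𝒟.B i) (B' 𝒟 R' p' i) (A' 𝒟 R' (i + 1)) :=
  IsScalarTower.of_algebraMap_eq fun _ => rfl

theorem isPushout_BA : Algebra.IsPushout (𝒟.B i) (B' 𝒟 R' p' i) (𝒟.A i) (A' 𝒟 R' i) :=
  have := isPushout_A 𝒟 R' i
  have := isPushout_B 𝒟 R' p' i
  isPushout_middle R (𝒟.B i) (𝒟.A i) R' (B' 𝒟 R' p' i) (A' 𝒟 R' i)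

theorem isPushout_BA' (h : (i : ℕ) + 1 < 𝒟.n) :
    Algebra.IsPushout (𝒟.B i) (B' 𝒟 R' p' i) (𝒟.A (i + 1)) (A' 𝒟 R' (i + 1)) :=
  have : Algebra.IsPushout R R' (𝒟.A ((i : ℕ) + 1)) (A' 𝒟 R' (i + 1)) :=
    isPushout_A 𝒟 R' ⟨i + 1, h⟩
  have := isPushout_B 𝒟 R' p' i
  isPushout_middle R (𝒟.B i) (𝒟.A (i + 1)) R' (B' 𝒟 R' p' i) (A' 𝒟 R' (i + 1))

theorem smooth_B : Algebra.Smooth R' (B' 𝒟 R' p' i) :=
  have := 𝒟.smooth i i.2
  Algebra.Smooth.of_equiv (equivB 𝒟 R' p' i)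

theorem geomIrred_B : FlatCA.GeomIrredFibres R' (B' 𝒟 R' p' i) :=
  have := isPushout_B 𝒟 R' p' i
  geomIrredFibres_baseChange R R' (𝒟.B i) _ (𝒟.geomIrred i i.2)

set_option synthInstance.maxHeartbeats 100000 in
theorem g_isBaseChange_B :
    IsBaseChange (B' 𝒟 R' p' i) ((g 𝒟 R' i).restrictScalars (𝒟.B i)) :=
  have := isPushout_BA 𝒟 R' p' i
  isBaseChange_restrict (g_isBaseChange 𝒟 R' i)

theorem g_isBaseChange_B' (h : (i : ℕ) + 1 < 𝒟.n) :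
    IsBaseChange (B' 𝒟 R' p' i) ((g 𝒟 R' (i + 1)).restrictScalars (𝒟.B i)) :=
  have := isPushout_BA' 𝒟 R' p' i h
  isBaseChange_restrict (g_isBaseChange 𝒟 R' (i + 1))

theorem range_α' :
    LinearMap.range (α' 𝒟 R' p' i) =
      Submodule.span (B' 𝒟 R' p' i) (g 𝒟 R' i '' (LinearMap.range (𝒟.α i) : Set (𝒟.M i))) :=
  range_baseChangeFree (B' := B' 𝒟 R' p' i) (g := (g 𝒟 R' i).restrictScalars (𝒟.B i)) (𝒟.r i) (𝒟.α i)

theorem surjective_α' (h : Function.Surjective (𝒟.α i)) : Function.Surjective (α' 𝒟 R' p' i) := by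
  rw [← LinearMap.range_eq_top, range_α', eq_top_iff]
  intro x hx
  clear hx
  rw [LinearMap.range_eq_top.mpr h, Submodule.top_coe, Set.image_univ]
  induction x using (g_isBaseChange_B 𝒟 R' p' i).inductionOn with
  | zero => simp
  | tmul m => exact Submodule.subset_span ⟨m, rfl⟩
  | smul s x hx => exact Submodule.smul_mem _ _ hx
  | add a b ha hb => exact Submodule.add_mem _ ha hb

theorem finite_BA : Module.Finite (B' 𝒟 R' p' i) (A' 𝒟 R' i) :=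
  have := 𝒟.finiteBA i i.2
  have := isPushout_BA 𝒟 R' p' i
  Module.Finite.equiv (Algebra.IsPushout.equiv (𝒟.B i) (B' 𝒟 R' p' i) (𝒟.A i) _).toLinearEquiv

theorem surjective_BA' (h : (i : ℕ) + 1 < 𝒟.n) :
    Function.Surjective (algebraMap (B' 𝒟 R' p' i) (A' 𝒟 R' (i + 1))) :=
  have := isPushout_B 𝒟 R' p' i
  have : Algebra.IsPushout R R' (𝒟.A ((i : ℕ) + 1)) (A' 𝒟 R' (i + 1)) :=
    isPushout_A 𝒟 R' ⟨i + 1, h⟩
  surjective_middle R (𝒟.B i) (𝒟.A (i + 1)) R' (B' 𝒟 R' p' i) _ (𝒟.surjBA' i h)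

theorem fp_BA' (h : (i : ℕ) + 1 < 𝒟.n) :
    Algebra.FinitePresentation (B' 𝒟 R' p' i) (A' 𝒟 R' (i + 1)) :=
  have := 𝒟.fpBA' i h
  have := isPushout_BA' 𝒟 R' p' i h
  Algebra.FinitePresentation.equiv (Algebra.IsPushout.equiv (𝒟.B i) (B' 𝒟 R' p' i) (𝒟.A (i + 1)) _)

theorem nonempty_coker (h : (i : ℕ) + 1 < 𝒟.n) :
    Nonempty ((M' 𝒟 R' i ⧸ LinearMap.range (α' 𝒟 R' p' i)) ≃ₗ[B' 𝒟 R' p' i] M' 𝒟 R' (i + 1)) :=
  nonempty_coker_equiv (g_isBaseChange_B 𝒟 R' p' i) (g_isBaseChange_B' 𝒟 R' p' i h) _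
    (𝒟.isoCoker i h) _ (range_α' 𝒟 R' p' i)

variable [p'.IsPrime] [p'.LiesOver p]

theorem fibreIso (h : (p'.map (algebraMap R' (B' 𝒟 R' p' i))).IsPrime) :
    Function.Bijective
      ((α' 𝒟 R' p' i).baseChange (p'.map (algebraMap R' (B' 𝒟 R' p' i))).ResidueField) := by
  have := 𝒟.smooth i i.2
  have := smooth_B 𝒟 R' p' i
  have := isPushout_B 𝒟 R' p' i
  have := map_liesOver_map (B := 𝒟.B i) (B' := B' 𝒟 R' p' i) p p'
  exact bijective_baseChangeFree (𝒟.r i) (𝒟.α i) (g_isBaseChange_B 𝒟 R' p' i)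
    (p.map (algebraMap R (𝒟.B i))) (p'.map (algebraMap R' (B' 𝒟 R' p' i))) (𝒟.fibreIso i i.2)

end Step

theorem isPrime_hp [p'.IsPrime] [p'.LiesOver p] (i : ℕ) :
    (p'.map (algebraMap R' (B' 𝒟 R' p' i))).IsPrime := by
  by_cases h : i < 𝒟.n
  · have := smooth_B 𝒟 R' p' ⟨i, h⟩
    exact isPrime_map R' (B' 𝒟 R' p' i) p' (geomIrred_B 𝒟 R' p' ⟨i, h⟩)
  · have hK : K 𝒟 R' p' i = Ideal.prod p' ⊤ := by rw [K, if_neg h]
    have : (K 𝒟 R' p' i).IsPrime := hK ▸ Ideal.isPrime_ideal_prod_top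
    have hbot : p'.map (algebraMap R' (B' 𝒟 R' p' i)) = ⊥ := by
      rw [eq_bot_iff, Ideal.map_le_iff_le_comap]
      intro r hr
      rw [Ideal.mem_comap, Ideal.mem_bot]
      exact Ideal.Quotient.eq_zero_iff_mem.mpr (by rw [hK]; exact ⟨hr, trivial⟩)
    have : IsDomain (B' 𝒟 R' p' i) := Ideal.Quotient.isDomain (K 𝒟 R' p' i)
    rw [hbot]
    exact Ideal.isPrime_bot

section Package

variable [p'.IsPrime] [p'.LiesOver p] (S' : Type u) [CommRing S'] [Algebra R' S'] {N' : Type u}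
  [AddCommGroup N'] [Module S' N'] [Algebra S' (A' 𝒟 R' 0)] [IsScalarTower R' S' (A' 𝒟 R' 0)]

omit [p'.IsPrime] [p'.LiesOver p] in
theorem cokerLast : Function.Surjective (α' 𝒟 R' p' (𝒟.n - 1)) :=
  surjective_α' 𝒟 R' p' ⟨𝒟.n - 1, Nat.sub_one_lt_of_lt 𝒟.pos⟩ 𝒟.cokerLast

theorem finiteM (i : ℕ) (h : i < 𝒟.n) : Module.Finite (A' 𝒟 R' i) (M' 𝒟 R' i) :=
  have := 𝒟.finiteM i h
  inferInstance

/-- The base change of a complete dévissage. -/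
noncomputable def devissage (hsurj : Function.Surjective (algebraMap S' (A' 𝒟 R' 0)))
    (hfp : Algebra.FinitePresentation S' (A' 𝒟 R' 0)) (e : N' ≃ₗ[S'] M' 𝒟 R' 0) :
    FlatCA.CompleteDevissage R' S' N' p' :=
  FlatCA.CompleteDevissage.mk (n := 𝒟.n) (pos := 𝒟.pos) (A := A' 𝒟 R') (B := B' 𝒟 R' p')
    (M := M' 𝒟 R') (r := 𝒟.r) (hp := isPrime_hp 𝒟 R' p') (α := α' 𝒟 R' p')
    (surjSA := hsurj) (fpSA := hfp)
    (surjBA' := fun i h => surjective_BA' 𝒟 R' p' ⟨i, Nat.lt_of_succ_lt h⟩ h)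
    (fpBA' := fun i h => fp_BA' 𝒟 R' p' ⟨i, Nat.lt_of_succ_lt h⟩ h)
    (finiteBA := fun i h => finite_BA 𝒟 R' p' ⟨i, h⟩)
    (smooth := fun i h => smooth_B 𝒟 R' p' ⟨i, h⟩)
    (geomIrred := fun i h => geomIrred_B 𝒟 R' p' ⟨i, h⟩)
    (finiteM := finiteM 𝒟 R')
    (isoN := e)
    (isoCoker := fun i h => (nonempty_coker 𝒟 R' p' ⟨i, Nat.lt_of_succ_lt h⟩ h).some)
    (fibreIso := fun i h => fibreIso 𝒟 R' p' ⟨i, h⟩ (isPrime_hp 𝒟 R' p' i))
    (cokerLast := cokerLast 𝒟 R' p')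

end Package

end Groth.Agent.H8Props.Devissage.CBC
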