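import Groth.Agent.H8Props.FieldDimRing
import Groth.Agent.H06EGA12.BaseChangePD
import Groth.Prelude.Def_FlatCA
import Mathlib.RingTheory.KrullDimension.NonZeroDivisors

/-!
# Fibre modules and the dimension of their supports under base change

The fibre of a base change is the fibre tensored with the extension of residue fields; the support of
the fibre module pulls back and its dimension does not change.
-/

set_option autoImplicit false

universe u

open TensorProduct

attribute [local instance] Algebra.TensorProduct.rightAlgebra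

namespace Groth.Agent.H8Props.Devissage

theorem ringKrullDim_le_of_quotients {A : Type u} [CommRing A] {N : WithBot ℕ∞}
    (h : ∀ p : PrimeSpectrum A, ringKrullDim (A ⧸ p.asIdeal) ≤ N) : ringKrullDim A ≤ N := by
  refine iSup_le fun l => le_trans ?_ (h l.head)
  rw [ringKrullDim_quotient]
  let l' : LTSeries (PrimeSpectrum.zeroLocus (l.head.asIdeal : Set A)) :=
    LTSeries.mk l.length (fun i => ⟨l i, (l.monotone (Fin.zero_le i) : l.head ≤ l i)⟩)
      fun i j hij => l.strictMono hij
  exact Order.LTSeries.length_le_krullDim l'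

/-- A field extension does not change the dimension of a closed subset. -/
theorem dim_tensor_quotient (k K F : Type u) [Field k] [Field K] [Algebra k K] [CommRing F]
    [Algebra k F] [Algebra.FiniteType k F] (I : Ideal F) :
    ringKrullDim (K ⊗[k] F ⧸ I.map (algebraMap F (K ⊗[k] F))) = ringKrullDim (F ⧸ I) := by
  let inc := (Algebra.TensorProduct.includeRight : F →ₐ[k] K ⊗[k] F).toRingHom
  have hinc : algebraMap F (K ⊗[k] F) = inc := rfl
  refine le_antisymm (ringKrullDim_le_of_quotients fun Q => ?_)
    (ringKrullDim_le_of_quotients fun P => ?_)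
  · let mk := Ideal.Quotient.mk (I.map (algebraMap F (K ⊗[k] F)))
    let Q' := Q.asIdeal.comap mk
    have h1 : ringKrullDim ((K ⊗[k] F ⧸ I.map (algebraMap F (K ⊗[k] F))) ⧸ Q.asIdeal) ≤
        ringKrullDim (K ⊗[k] F ⧸ Q') :=
      ringKrullDim_le_of_surjective (Ideal.Quotient.lift Q' ((Ideal.Quotient.mk Q.asIdeal).comp mk)
        fun a ha => Ideal.Quotient.eq_zero_iff_mem.mpr ha)
        (Ideal.Quotient.lift_surjective_of_surjective _ _
          (Ideal.Quotient.mk_surjective.comp Ideal.Quotient.mk_surjective))
    refine h1.trans ((FieldDim.dim_quotient_le_comap k K Q').trans ?_)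
    refine ringKrullDim_le_of_surjective _ (Ideal.Quotient.factor_surjective (S := I) ?_)
    intro x hx
    show mk (inc x) ∈ Q.asIdeal
    rw [show mk (inc x) = 0 from Ideal.Quotient.eq_zero_iff_mem.mpr (Ideal.mem_map_of_mem _ hx)]
    exact zero_mem _
  · let P' := P.asIdeal.comap (Ideal.Quotient.mk I)
    have : Module.FaithfullyFlat F (K ⊗[k] F) := Module.FaithfullyFlat.of_linearEquiv _ _
      (Algebra.TensorProduct.commRight k F K).symm.toLinearEquiv
    have : Function.Surjective (PrimeSpectrum.comap (algebraMap F (K ⊗[k] F))) :=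
      PrimeSpectrum.comap_surjective_of_faithfullyFlat
    obtain ⟨Q, hQ⟩ := this ⟨P', inferInstance⟩
    have hQ' : Q.asIdeal.comap inc = P' := congrArg PrimeSpectrum.asIdeal hQ
    obtain ⟨q, _, -, hq, hd⟩ := FieldDim.exists_le_comap_eq k K P' Q.asIdeal hQ'.ge
    have h1 : ringKrullDim ((F ⧸ I) ⧸ P.asIdeal) ≤ ringKrullDim (F ⧸ P') :=
      ringKrullDim_le_of_surjective (Ideal.Quotient.lift P'
        ((Ideal.Quotient.mk P.asIdeal).comp (Ideal.Quotient.mk I))
        fun a ha => Ideal.Quotient.eq_zero_iff_mem.mpr ha)
        (Ideal.Quotient.lift_surjective_of_surjective _ _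
          (Ideal.Quotient.mk_surjective.comp Ideal.Quotient.mk_surjective))
    refine h1.trans (hd ▸ ringKrullDim_le_of_surjective _ (Ideal.Quotient.factor_surjective
      (Ideal.map_le_iff_le_comap.mpr ?_)))
    intro x hx
    rw [hinc, hq]
    show Ideal.Quotient.mk I x ∈ P.asIdeal
    rw [Ideal.Quotient.eq_zero_iff_mem.mpr hx]
    exact zero_mem _

theorem dim_quotient_map_of_isPushout (k K F F' : Type u) [Field k] [Field K] [Algebra k K]
    [CommRing F] [Algebra k F] [Algebra.FiniteType k F] [CommRing F'] [Algebra K F'] [Algebra F F']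
    [Algebra k F'] [IsScalarTower k K F'] [IsScalarTower k F F'] [Algebra.IsPushout k K F F']
    (I : Ideal F) :
    ringKrullDim (F' ⧸ I.map (algebraMap F F')) = ringKrullDim (F ⧸ I) := by
  rw [← dim_tensor_quotient k K F I]
  refine ringKrullDim_eq_of_ringEquiv
    (Ideal.quotientEquiv _ _ (Algebra.IsPushout.equiv k K F F').toRingEquiv ?_).symm
  rw [Ideal.map_map]
  congr 1
  ext x
  exact ((Algebra.IsPushout.equiv_tmul k K F F' 1 x).trans (by simp)).symm

section Fibre

variable (R S : Type u) [CommRing R] [CommRing S] [Algebra R S] (p : Ideal R) [p.IsPrime]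
  (R' : Type u) [CommRing R'] [Algebra R R'] (p' : Ideal R') [p'.IsPrime] [hp : p'.LiesOver p]
  (S' : Type u) [CommRing S'] [Algebra R' S'] [Algebra R S'] [Algebra S S']
  [IsScalarTower R R' S'] [IsScalarTower R S S']

/-- The map of residue fields. -/
noncomputable def residueMap : p.ResidueField →ₐ[R] p'.ResidueField :=
  Ideal.ResidueField.mapₐ p p' (Algebra.ofId R R') hp.over

/-- The map of fibres induced by a square. -/
noncomputable def fibreMap : p.Fiber S →ₐ[R] p'.Fiber S' :=
  Algebra.TensorProduct.lift
    (((Algebra.TensorProduct.includeLeft : p'.ResidueField →ₐ[R'] p'.Fiber S').restrictScalars R).comp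
      (residueMap R p R' p'))
    (((Algebra.TensorProduct.includeRight : S' →ₐ[R'] p'.Fiber S').restrictScalars R).comp
      (IsScalarTower.toAlgHom R S S'))
    fun _ _ => Commute.all _ _

theorem fibreMap_tmul (x : p.ResidueField) (s : S) :
    fibreMap R S p R' p' S' (x ⊗ₜ s) = residueMap R p R' p' x ⊗ₜ algebraMap S S' s := by
  simp [fibreMap]

theorem fibreMap_algebraMap (s : S) :
    fibreMap R S p R' p' S' (algebraMap S (p.Fiber S) s) =
      algebraMap S' (p'.Fiber S') (algebraMap S S' s) :=
  (fibreMap_tmul R S p R' p' S' 1 s).trans (by rw [map_one]; rfl)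

/-- The tower for the square of fibres. -/
theorem isScalarTower_fibre [Algebra p.ResidueField p'.ResidueField] [Algebra (p.Fiber S) (p'.Fiber S')]
    (h₁ : ∀ x, algebraMap p.ResidueField p'.ResidueField x = residueMap R p R' p' x)
    (h₂ : ∀ x, algebraMap (p.Fiber S) (p'.Fiber S') x = fibreMap R S p R' p' S' x) :
    IsScalarTower p.ResidueField (p.Fiber S) (p'.Fiber S') :=
  IsScalarTower.of_algebraMap_eq (R := p.ResidueField) (S := p.Fiber S) (A := p'.Fiber S') fun x => by
    rw [h₂]
    refine Eq.trans ?_ ((fibreMap_tmul R S p R' p' S' x 1).trans (by rw [map_one, ← h₁])).symm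
    rfl

/-- The fibre of a base change is the base change of the fibre. -/
theorem isPushout_fibre [Algebra.IsPushout R R' S S']
    [Algebra p.ResidueField p'.ResidueField] [Algebra (p.Fiber S) (p'.Fiber S')]
    [IsScalarTower p.ResidueField (p.Fiber S) (p'.Fiber S')]
    (h₁ : ∀ x, algebraMap p.ResidueField p'.ResidueField x = residueMap R p R' p' x)
    (h₂ : ∀ x, algebraMap (p.Fiber S) (p'.Fiber S') x = fibreMap R S p R' p' S' x) :
    Algebra.IsPushout p.ResidueField p'.ResidueField (p.Fiber S) (p'.Fiber S') := by
  let : Algebra S (p'.Fiber S') :=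
    ((algebraMap S' (p'.Fiber S')).comp (algebraMap S S')).toAlgebra
  have : IsScalarTower S S' (p'.Fiber S') := IsScalarTower.of_algebraMap_eq fun _ => rfl
  have : IsScalarTower R S (p'.Fiber S') := IsScalarTower.of_algebraMap_eq fun r => by
    rw [IsScalarTower.algebraMap_apply S S' (p'.Fiber S'), ← IsScalarTower.algebraMap_apply R S S',
      IsScalarTower.algebraMap_apply R R' S', ← IsScalarTower.algebraMap_apply R' S' (p'.Fiber S'),
      ← IsScalarTower.algebraMap_apply R R' (p'.Fiber S')]
  have : IsScalarTower S (p.Fiber S) (p'.Fiber S') :=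
    IsScalarTower.of_algebraMap_eq fun s => ((h₂ _).trans (fibreMap_algebraMap R S p R' p' S' s)).symm
  have : IsScalarTower R p.ResidueField p'.ResidueField :=
    IsScalarTower.of_algebraMap_eq fun r => ((h₁ _).trans ((residueMap R p R' p').commutes r)).symm
  have : IsScalarTower R p.ResidueField (p'.Fiber S') :=
    IsScalarTower.of_algebraMap_eq fun r => by
      rw [IsScalarTower.algebraMap_apply p.ResidueField p'.ResidueField (p'.Fiber S'),
        ← IsScalarTower.algebraMap_apply R p.ResidueField p'.ResidueField,
        ← IsScalarTower.algebraMap_apply R p'.ResidueField (p'.Fiber S')]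
  have : IsScalarTower R S' (p'.Fiber S') := IsScalarTower.of_algebraMap_eq fun r => by
    rw [IsScalarTower.algebraMap_apply R R' S', ← IsScalarTower.algebraMap_apply R' S' (p'.Fiber S'),
      ← IsScalarTower.algebraMap_apply R R' (p'.Fiber S')]
  have : IsScalarTower R (p.Fiber S) (p'.Fiber S') := IsScalarTower.of_algebraMap_eq fun r =>
    ((h₂ _).trans ((fibreMap R S p R' p' S').commutes r)).symm
  have h1 : Algebra.IsPushout R p'.ResidueField S (p'.Fiber S') :=
    (Algebra.IsPushout.comp_iff (R := R) (S := R') (R' := S) (S' := S')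
      (T := p'.ResidueField) (T' := p'.Fiber S')).mpr inferInstance
  exact (Algebra.IsPushout.comp_iff (R := R) (S := p.ResidueField) (R' := S) (S' := p.Fiber S)
    (T := p'.ResidueField) (T' := p'.Fiber S')).mp h1

theorem fibreMap_bijective [Algebra.IsPushout R R' S S']
    (hκ : Function.Bijective (residueMap R p R' p')) :
    Function.Bijective (fibreMap R S p R' p' S') := by
  let := (residueMap R p R' p').toRingHom.toAlgebra
  let := (fibreMap R S p R' p' S').toRingHom.toAlgebra
  have := isScalarTower_fibre R S p R' p' S' (fun _ => rfl) (fun _ => rfl)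
  have := isPushout_fibre R S p R' p' S' (fun _ => rfl) (fun _ => rfl)
  let e : p.ResidueField ≃ₐ[p.ResidueField] p'.ResidueField :=
    AlgEquiv.ofBijective (Algebra.ofId p.ResidueField p'.ResidueField) hκ
  let a : p.Fiber S ≃ₗ[p.ResidueField] p.ResidueField ⊗[p.ResidueField] p.Fiber S :=
    (TensorProduct.lid _ _).symm
  let b := TensorProduct.congr e.toLinearEquiv (LinearEquiv.refl p.ResidueField (p.Fiber S))
  let c := Algebra.IsPushout.equiv p.ResidueField p'.ResidueField (p.Fiber S) (p'.Fiber S')
  have key : ⇑(fibreMap R S p R' p' S') = c ∘ b ∘ a := funext fun x => by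
    show _ = c (e 1 ⊗ₜ x)
    rw [map_one]
    exact ((Algebra.IsPushout.equiv_tmul _ _ _ _ 1 x).trans (by rw [map_one, one_mul]; rfl)).symm
  rw [key]
  exact c.bijective.comp (b.bijective.comp a.bijective)

section Module

variable (N : Type u) [AddCommGroup N] [Module S N] [Module R N] [IsScalarTower R S N]
  [Module.Finite S N] (N' : Type u) [AddCommGroup N'] [Module S' N'] [Module R' N']
  [IsScalarTower R' S' N'] [Module S N'] [IsScalarTower S S' N'] {f : N →ₗ[S] N'}

omit [Module R N] [IsScalarTower R S N] in
theorem finite_fiberMod : Module.Finite (p.Fiber S) (FlatCA.fiberMod p S N) :=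
  inferInstanceAs (Module.Finite (p.Fiber S) ((p.Fiber S) ⊗[S] N))

omit [Module R N] [IsScalarTower R S N] in
theorem mem_support_fiberMod_iff (Q : PrimeSpectrum (p.Fiber S)) :
    Q ∈ Module.support (p.Fiber S) (FlatCA.fiberMod p S N) ↔
      PrimeSpectrum.comap (algebraMap S (p.Fiber S)) Q ∈ Module.support S N :=
  H06EGA12.mem_support_baseChange_iff N Q

omit [Module R N] [IsScalarTower R S N] [Module R' N'] [IsScalarTower R' S' N'] in
/-- The support of the fibre module of a base change is the preimage. -/
theorem support_fiberMod_baseChange (hf : IsBaseChange S' f) :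
    Module.support (p'.Fiber S') (FlatCA.fiberMod p' S' N') =
      PrimeSpectrum.comap (fibreMap R S p R' p' S').toRingHom ⁻¹'
        Module.support (p.Fiber S) (FlatCA.fiberMod p S N) := by
  have : Module.Finite S' N' := Module.Finite.equiv hf.equiv
  ext Q
  rw [Set.mem_preimage, mem_support_fiberMod_iff, mem_support_fiberMod_iff,
    ← hf.equiv.support_eq, H06EGA12.mem_support_baseChange_iff]
  refine iff_of_eq (congrArg (· ∈ Module.support S N) (PrimeSpectrum.ext ?_))
  show ((Q.asIdeal.comap (algebraMap S' (p'.Fiber S'))).comap (algebraMap S S')) = _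
  rw [Ideal.comap_comap]
  show _ = (Q.asIdeal.comap (fibreMap R S p R' p' S').toRingHom).comap (algebraMap S (p.Fiber S))
  rw [Ideal.comap_comap]
  congr 1
  exact RingHom.ext fun s => (fibreMap_algebraMap R S p R' p' S' s).symm

omit [Module R N] [IsScalarTower R S N] [Module R' N'] [IsScalarTower R' S' N'] in
/-- The dimension of the support of the fibre module is invariant under base change. -/
theorem supportDim_fiberMod_baseChange [Algebra.FiniteType R S] [Algebra.IsPushout R R' S S']
    (hf : IsBaseChange S' f) :
    Module.supportDim (p'.Fiber S') (FlatCA.fiberMod p' S' N') =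
      Module.supportDim (p.Fiber S) (FlatCA.fiberMod p S N) := by
  have := finite_fiberMod R S p N
  have hsupp := support_fiberMod_baseChange R S p R' p' S' N N' hf
  let := (residueMap R p R' p').toRingHom.toAlgebra
  let := (fibreMap R S p R' p' S').toRingHom.toAlgebra
  have := isScalarTower_fibre R S p R' p' S' (fun _ => rfl) (fun _ => rfl)
  have := isPushout_fibre R S p R' p' S' (fun _ => rfl) (fun _ => rfl)
  rw [Module.supportDim_eq_ringKrullDim_quotient_annihilator (R := p.Fiber S),
    ← dim_quotient_map_of_isPushout p.ResidueField p'.ResidueField (p.Fiber S) (p'.Fiber S'),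
    ringKrullDim_quotient]
  show Order.krullDim ↥(Module.support (p'.Fiber S') (FlatCA.fiberMod p' S' N')) = _
  rw [hsupp, Module.support_eq_zeroLocus]
  refine congrArg (fun Z : Set (PrimeSpectrum (p'.Fiber S')) => Order.krullDim Z) ?_
  refine (PrimeSpectrum.preimage_comap_zeroLocus (fibreMap R S p R' p' S').toRingHom _).trans ?_
  exact (PrimeSpectrum.zeroLocus_span _).symm

end Module

end Fibre

end Groth.Agent.H8Props.Devissage
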