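import Groth.Agent.H8Props.Devissage.Shrink
import Mathlib.RingTheory.Spectrum.Prime.Chevalley

/-!
# Elements cutting out standard shrinkings of complete dévissages
-/

set_option autoImplicit false

universe u

namespace Groth.Agent.H8Props.Devissage

section Image

variable {R B : Type u} [CommRing R] [CommRing B] [Algebra R B]

/-- The image of a basic open of a smooth algebra contains a basic open around each of its points. -/
theorem exists_forall_mem_image [Algebra.Smooth R B] (p : Ideal R) [p.IsPrime] (y : Ideal B)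
    [y.IsPrime] [y.LiesOver p] {w : B} (hw : w ∉ y) :
    ∃ g : R, g ∉ p ∧ ∀ x : PrimeSpectrum R, g ∉ x.asIdeal →
      ∃ Q : PrimeSpectrum B, w ∉ Q.asIdeal ∧ PrimeSpectrum.comap (algebraMap R B) Q = x := by
  have : Module.Flat R B := Algebra.Smooth.flat R B
  have hopen := PrimeSpectrum.isOpenMap_comap_of_hasGoingDown_of_finitePresentation
    (R := R) (S := B) (PrimeSpectrum.basicOpen w : Set (PrimeSpectrum B))
    (PrimeSpectrum.basicOpen w).isOpen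
  have hmem : (⟨p, inferInstance⟩ : PrimeSpectrum R) ∈
      PrimeSpectrum.comap (algebraMap R B) '' (PrimeSpectrum.basicOpen w : Set (PrimeSpectrum B)) :=
    ⟨⟨y, inferInstance⟩, hw, PrimeSpectrum.ext (y.over_def p).symm⟩
  obtain ⟨_, ⟨g, rfl⟩, hgp, hsub⟩ :=
    PrimeSpectrum.isTopologicalBasis_basic_opens.exists_subset_of_mem_open hmem hopen
  exact ⟨g, hgp, fun x hx => hsub hx⟩

variable {R₁ B₁ : Type u} [CommRing R₁] [CommRing B₁] [Algebra R R₁] [Algebra B B₁] [Algebra R₁ B₁]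
  [Algebra R B₁] [IsScalarTower R R₁ B₁] [IsScalarTower R B B₁]

/-- The localization at such an element surjects onto the shrunken base. -/
theorem surjective_comap_away (g : R) [IsLocalization.Away g R₁] (w : B)
    [IsLocalization.Away (w * algebraMap R B g) B₁]
    (h : ∀ x : PrimeSpectrum R, g ∉ x.asIdeal →
      ∃ Q : PrimeSpectrum B, w ∉ Q.asIdeal ∧ PrimeSpectrum.comap (algebraMap R B) Q = x) :
    Function.Surjective (PrimeSpectrum.comap (algebraMap R₁ B₁)) := by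
  intro x
  have hx : g ∉ (PrimeSpectrum.comap (algebraMap R R₁) x).asIdeal := fun h =>
    x.isPrime.ne_top (Ideal.eq_top_of_isUnit_mem _ h (IsLocalization.Away.algebraMap_isUnit g))
  obtain ⟨Q, hQw, hQ⟩ := h _ hx
  have hQg : w * algebraMap R B g ∉ Q.asIdeal := fun h => by
    rcases Q.isPrime.mem_or_mem h with h | h
    · exact hQw h
    · exact hx (by rw [← hQ]; exact h)
  have := isPrime_map_away (S₁ := B₁) (w * algebraMap R B g) Q.asIdeal hQg
  have := liesOver_map_away (S₁ := B₁) (w * algebraMap R B g) Q.asIdeal hQg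
  refine ⟨⟨Q.asIdeal.map (algebraMap B B₁), inferInstance⟩,
    PrimeSpectrum.localization_comap_injective R₁ (Submonoid.powers g) ?_⟩
  rw [← hQ]
  apply PrimeSpectrum.ext
  show ((Q.asIdeal.map (algebraMap B B₁)).under R₁).under R = Q.asIdeal.under R
  rw [Ideal.under_under, ← Ideal.under_under (B := B) (Q.asIdeal.map (algebraMap B B₁)),
    ← (Q.asIdeal.map (algebraMap B B₁)).over_def Q.asIdeal]

end Image

/-- An element outside a prime with a single prime above it has a multiple below outside that prime. -/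
theorem exists_notMem_dvd {B A : Type u} [CommRing B] [CommRing A] [Algebra B A] [Module.Finite B A]
    (y : Ideal B) [y.IsPrime] (z : Ideal A) (huniq : ∀ (Q : Ideal A) [Q.IsPrime], Q.LiesOver y → Q = z)
    {t : A} (ht : t ∉ z) : ∃ c : B, c ∉ y ∧ t ∣ algebraMap B A c := by
  by_contra hno
  have hle : (Ideal.span {t}).comap (algebraMap B A) ≤ y := fun c hc => by
    by_contra hcy
    exact hno ⟨c, hcy, Ideal.mem_span_singleton.mp hc⟩
  obtain ⟨Q, hQ, hQP, hQy⟩ := Ideal.exists_ideal_over_prime_of_isIntegral y _ hle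
  have := huniq Q ⟨hQy.symm⟩
  exact ht (this ▸ hQ (Ideal.mem_span_singleton_self t))

variable {R S : Type u} [CommRing R] [CommRing S] [Algebra R S] {N : Type u} [AddCommGroup N]
  [Module S N] {p : Ideal R} [p.IsPrime] {q : Ideal S} [q.IsPrime]
  {𝒟 : FlatCA.CompleteDevissage R S N p} (𝒜 : FlatCA.CompleteDevissageAt R S N p q 𝒟)

theorem notMem_qB_of_notMem {i : ℕ} (h : i + 1 < 𝒟.n) {c : 𝒟.B i}
    (hc : algebraMap (𝒟.B i) (𝒟.A (i + 1)) c ∉ 𝒜.qA (i + 1)) : c ∉ 𝒜.qB i := fun hm => by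
  rw [← 𝒜.qStep i h] at hm
  exact hc hm

theorem notMem_qA_of_notMem (i : ℕ) {c : 𝒟.B i} (hc : c ∉ 𝒜.qB i) :
    algebraMap (𝒟.B i) (𝒟.A i) c ∉ 𝒜.qA i := fun hm =>
  hc (((𝒜.overA i).over) ▸ hm)

theorem algebraMap_notMem_qB (i : ℕ) {g : R} (hg : g ∉ p) : algebraMap R (𝒟.B i) g ∉ 𝒜.qB i :=
  fun hm => hg (((𝒜.overB i).over) ▸ hm)

/-- Shrinking forwards: elements of the smooth algebras inside a given open of `S`. -/
theorem exists_forward {u : S} (hu : u ∉ q) :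
    ∃ c : ∀ i, 𝒟.B i, (∀ i, i < 𝒟.n → c i ∉ 𝒜.qB i) ∧
      algebraMap S (𝒟.A 0) u ∣ algebraMap (𝒟.B 0) (𝒟.A 0) (c 0) ∧
      ∀ i, i + 1 < 𝒟.n → algebraMap (𝒟.B i) (𝒟.A (i + 1)) (c i) ∣
        algebraMap (𝒟.B (i + 1)) (𝒟.A (i + 1)) (c (i + 1)) := by
  have := 𝒜.hqA
  have := 𝒜.hqB
  have key (i : ℕ) (t : 𝒟.A i) : ∃ c : 𝒟.B i, i < 𝒟.n → t ∉ 𝒜.qA i →
      c ∉ 𝒜.qB i ∧ t ∣ algebraMap (𝒟.B i) (𝒟.A i) c := by
    by_cases h : i < 𝒟.n ∧ t ∉ 𝒜.qA i
    · have := 𝒟.finiteBA i h.1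
      obtain ⟨c, hc⟩ := exists_notMem_dvd (𝒜.qB i) (𝒜.qA i) (𝒜.uniq i h.1) h.2
      exact ⟨c, fun _ _ => hc⟩
    · exact ⟨1, fun h₁ h₂ => absurd ⟨h₁, h₂⟩ h⟩
  choose f hf using key
  let c : ∀ i, 𝒟.B i := fun i => Nat.rec (f 0 (algebraMap S (𝒟.A 0) u))
    (fun j cj => f (j + 1) (algebraMap (𝒟.B j) (𝒟.A (j + 1)) cj)) i
  have hu0 : algebraMap S (𝒟.A 0) u ∉ 𝒜.qA 0 := fun hm => hu (𝒜.q0 ▸ hm)
  have hc : ∀ i, i < 𝒟.n → c i ∉ 𝒜.qB i := by
    intro i
    induction i with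
    | zero => exact fun h => (hf 0 _ h hu0).1
    | succ i ih =>
      intro h
      exact (hf (i + 1) _ h fun hm => ih (Nat.lt_of_succ_lt h) (𝒜.qStep i h ▸ hm)).1
  exact ⟨c, hc, (hf 0 _ 𝒟.pos hu0).2, fun i h =>
    (hf (i + 1) _ h fun hm => hc i (Nat.lt_of_succ_lt h) (𝒜.qStep i h ▸ hm)).2⟩

/-- Shrinking backwards: adjusting the elements so that consecutive opens agree. -/
theorem exists_backward (f : ∀ i, 𝒟.B i) (hf : ∀ i, i < 𝒟.n → f i ∉ 𝒜.qB i)
    (hff : ∀ i, i + 1 < 𝒟.n → algebraMap (𝒟.B i) (𝒟.A (i + 1)) (f i) ∣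
      algebraMap (𝒟.B (i + 1)) (𝒟.A (i + 1)) (f (i + 1))) :
    ∃ c : ∀ i, 𝒟.B i, (∀ i, i < 𝒟.n → c i ∉ 𝒜.qB i) ∧ (∀ i, f i ∣ c i) ∧
      c (𝒟.n - 1) = f (𝒟.n - 1) ∧
      ∀ i, i + 1 < 𝒟.n → ∀ P : PrimeSpectrum (𝒟.A (i + 1)),
        algebraMap (𝒟.B i) (𝒟.A (i + 1)) (c i) ∈ P.asIdeal ↔
          algebraMap (𝒟.B (i + 1)) (𝒟.A (i + 1)) (c (i + 1)) ∈ P.asIdeal := by
  have := 𝒜.hqA
  have := 𝒜.hqB
  suffices H : ∀ k, ∃ c : ∀ i, 𝒟.B i, (∀ i, i < 𝒟.n → c i ∉ 𝒜.qB i) ∧ (∀ i, f i ∣ c i) ∧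
      c (𝒟.n - 1) = f (𝒟.n - 1) ∧
      ∀ i, i + 1 < 𝒟.n → 𝒟.n ≤ i + 1 + k → ∀ P : PrimeSpectrum (𝒟.A (i + 1)),
        algebraMap (𝒟.B i) (𝒟.A (i + 1)) (c i) ∈ P.asIdeal ↔
          algebraMap (𝒟.B (i + 1)) (𝒟.A (i + 1)) (c (i + 1)) ∈ P.asIdeal by
    obtain ⟨c, h1, h2, h3, h4⟩ := H 𝒟.n
    exact ⟨c, h1, h2, h3, fun i hi => h4 i hi (by omega)⟩
  intro k
  induction k with
  | zero => exact ⟨f, hf, fun _ => dvd_rfl, rfl, fun i h1 h2 => by omega⟩
  | succ k ih =>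
    obtain ⟨c, h1, h2, h3, h4⟩ := ih
    by_cases hk : k + 2 ≤ 𝒟.n
    swap
    · exact ⟨c, h1, h2, h3, fun i hi _ => h4 i hi (by omega)⟩
    obtain ⟨j, hj⟩ : ∃ j, j + (k + 2) = 𝒟.n := ⟨_, Nat.sub_add_cancel hk⟩
    have hj1 : j + 1 < 𝒟.n := by omega
    obtain ⟨t, ht⟩ := 𝒟.surjBA' j hj1 (algebraMap (𝒟.B (j + 1)) (𝒟.A (j + 1)) (c (j + 1)))
    refine ⟨Function.update c j (f j * t), fun i hi => ?_, fun i => ?_, ?_, fun i hi hik P => ?_⟩
    · rcases eq_or_ne i j with rfl | hne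
      · rw [Function.update_self]
        intro hm
        rcases (inferInstance : (𝒜.qB i).IsPrime).mem_or_mem hm with hm | hm
        · exact hf i hi hm
        · refine notMem_qB_of_notMem 𝒜 hj1 ?_ hm
          rw [ht]
          exact notMem_qA_of_notMem 𝒜 _ (h1 _ hj1)
      · rw [Function.update_of_ne hne]
        exact h1 i hi
    · rcases eq_or_ne i j with rfl | hne
      · rw [Function.update_self]
        exact dvd_mul_right _ _
      · rw [Function.update_of_ne hne]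
        exact h2 i
    · rw [Function.update_of_ne (by omega)]
      exact h3
    · rcases eq_or_ne i j with rfl | hne
      · rw [Function.update_self, Function.update_of_ne (by omega), map_mul, ht]
        refine ⟨fun hm => ?_, fun hm => P.asIdeal.mul_mem_left _ hm⟩
        rcases P.isPrime.mem_or_mem hm with hm | hm
        · exact P.asIdeal.mem_of_dvd ((hff i hj1).trans (map_dvd (algebraMap _ _) (h2 (i + 1)))) hm
        · exact hm
      · rw [Function.update_of_ne hne, Function.update_of_ne (by omega)]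
        exact h4 i hi (by omega) P

/-- The base element: a common basic open inside all the images. -/
theorem exists_base (c : ∀ i, 𝒟.B i) (hc : ∀ i, i < 𝒟.n → c i ∉ 𝒜.qB i) :
    ∃ g : R, g ∉ p ∧ ∀ i, i < 𝒟.n → ∀ x : PrimeSpectrum R, g ∉ x.asIdeal →
      ∃ Q : PrimeSpectrum (𝒟.B i), c i ∉ Q.asIdeal ∧
        PrimeSpectrum.comap (algebraMap R (𝒟.B i)) Q = x := by
  have := 𝒜.hqB
  have := 𝒜.overB
  have key : ∀ i : Fin 𝒟.n, ∃ g : R, g ∉ p ∧ ∀ x : PrimeSpectrum R, g ∉ x.asIdeal →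
      ∃ Q : PrimeSpectrum (𝒟.B i), c i ∉ Q.asIdeal ∧
        PrimeSpectrum.comap (algebraMap R (𝒟.B i)) Q = x := fun i => by
    have := 𝒟.smooth i i.2
    exact exists_forall_mem_image p (𝒜.qB i) (hc i i.2)
  choose g hg hsub using key
  refine ⟨∏ i, g i, fun hm => ?_, fun i hi x hx => hsub ⟨i, hi⟩ x fun hm => hx ?_⟩
  · obtain ⟨i, -, hi⟩ := (Ideal.IsPrime.prod_mem_iff (p := p)).mp hm
    exact hg i hi
  · exact (Ideal.IsPrime.prod_mem_iff (p := x.asIdeal)).mpr ⟨⟨i, hi⟩, Finset.mem_univ _, hm⟩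

end Groth.Agent.H8Props.Devissage
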