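import Groth.Agent.H8Props.Devissage.LocalFibre
import Mathlib.RingTheory.Localization.BaseChange

/-!
# Standard shrinkings of one-step dévissages
-/

set_option autoImplicit false

universe u

open TensorProduct

attribute [local instance] Algebra.TensorProduct.rightAlgebra

namespace Groth.Agent.H8Props.Devissage

section Away

variable {S C S₁ C₁ : Type u} [CommRing S] [CommRing C] [CommRing S₁] [CommRing C₁] [Algebra S C]
  [Algebra S S₁] [Algebra S₁ C₁] [Algebra C C₁] [Algebra S C₁] [IsScalarTower S S₁ C₁]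
  [IsScalarTower S C C₁] (x : S) [IsLocalization.Away x S₁]
  [hC : IsLocalization.Away (algebraMap S C x) C₁]

include x hC in
theorem isPushout_away : Algebra.IsPushout S S₁ C C₁ := by
  have : IsLocalization (Algebra.algebraMapSubmonoid C (Submonoid.powers x)) C₁ := by
    rw [Algebra.algebraMapSubmonoid, Submonoid.map_powers]
    exact hC
  exact (Algebra.isPushout_of_isLocalization (Submonoid.powers x) S₁ C C₁).symm

/-- Two elements with the same basic open give the same localization. -/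
theorem away_of_basicOpen_eq (a b : C) [IsLocalization.Away a C₁]
    (h : ∀ P : PrimeSpectrum C, a ∈ P.asIdeal ↔ b ∈ P.asIdeal) : IsLocalization.Away b C₁ := by
  have e : PrimeSpectrum.basicOpen a = PrimeSpectrum.basicOpen b :=
    TopologicalSpace.Opens.ext (Set.ext fun P => not_congr (h P))
  obtain ⟨m, hm⟩ := (PrimeSpectrum.basicOpen_le_basicOpen_iff a b).mp e.le
  obtain ⟨k, hk⟩ := (PrimeSpectrum.basicOpen_le_basicOpen_iff b a).mp e.ge
  rw [Ideal.mem_span_singleton] at hm hk
  obtain ⟨c, hc⟩ := hm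
  obtain ⟨d, hd⟩ := hk
  have hub : IsUnit (algebraMap C C₁ b) :=
    isUnit_of_mul_isUnit_left (y := algebraMap C C₁ c)
      (by rw [← map_mul, ← hc, map_pow]; exact (IsLocalization.Away.algebraMap_isUnit a).pow m)
  refine IsLocalization.Away.mk b hub (fun z => ?_) fun x y hxy => ?_
  · obtain ⟨n, w, hw⟩ := IsLocalization.Away.surj a z
    refine ⟨k * n, w * d ^ n, ?_⟩
    rw [← map_pow, pow_mul, hd, mul_pow, map_mul, map_mul, ← mul_assoc, map_pow, hw]
  · obtain ⟨n, hn⟩ := IsLocalization.Away.exists_of_eq a hxy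
    refine ⟨k * n, ?_⟩
    rw [pow_mul, hd, mul_pow, mul_right_comm, mul_right_comm (a ^ n) (d ^ n), hn]

end Away

section Points

variable {S S₁ : Type u} [CommRing S] [CommRing S₁] [Algebra S S₁] (x : S)
  [IsLocalization.Away x S₁] (q : Ideal S) [hq : q.IsPrime]

theorem isPrime_map_away (hx : x ∉ q) : (q.map (algebraMap S S₁)).IsPrime :=
  IsLocalization.isPrime_of_isPrime_disjoint (Submonoid.powers x) S₁ q hq
    (Ideal.disjoint_powers_iff_notMem (y := x) hq.isRadical |>.mpr hx)

theorem liesOver_map_away (hx : x ∉ q) : (q.map (algebraMap S S₁)).LiesOver q :=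
  ⟨(IsLocalization.under_map_of_isPrime_disjoint (Submonoid.powers x) S₁ hq
    (Ideal.disjoint_powers_iff_notMem (y := x) hq.isRadical |>.mpr hx)).symm⟩

end Points

section Main

variable {R S C D R₁ S₁ C₁ D₁ N G N₁ G₁ : Type u} [CommRing R] [CommRing S] [CommRing C] [CommRing D]
  [CommRing R₁] [CommRing S₁] [CommRing C₁] [CommRing D₁] [Algebra R S] [Algebra S C] [Algebra R C]
  [IsScalarTower R S C] [Algebra R D] [Algebra D C] [IsScalarTower R D C] [Algebra R R₁]
  [Algebra R₁ S₁] [Algebra R S₁] [Algebra S S₁] [IsScalarTower R R₁ S₁] [IsScalarTower R S S₁]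
  [Algebra R₁ C₁] [Algebra R C₁] [Algebra C C₁] [IsScalarTower R R₁ C₁] [IsScalarTower R C C₁]
  [Algebra R₁ D₁] [Algebra R D₁] [Algebra D D₁] [IsScalarTower R R₁ D₁] [IsScalarTower R D D₁]
  [Algebra S₁ C₁] [IsScalarTower R₁ S₁ C₁] [Algebra S C₁] [IsScalarTower S S₁ C₁]
  [IsScalarTower S C C₁] [Algebra D₁ C₁] [IsScalarTower R₁ D₁ C₁] [Algebra D C₁]
  [IsScalarTower D D₁ C₁] [IsScalarTower D C C₁]
  [AddCommGroup N] [Module S N] [Module R N] [IsScalarTower R S N] [Module.Finite S N]
  [AddCommGroup G] [Module C G] [Module S G] [IsScalarTower S C G]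
  [AddCommGroup N₁] [Module S₁ N₁] [Module R₁ N₁] [IsScalarTower R₁ S₁ N₁] [Module S N₁]
  [IsScalarTower S S₁ N₁] [AddCommGroup G₁] [Module C₁ G₁] [Module S₁ G₁] [IsScalarTower S₁ C₁ G₁]
  [Module C G₁] [IsScalarTower C C₁ G₁]
  {p : Ideal R} [p.IsPrime] {q : Ideal S} [q.IsPrime] [q.LiesOver p] {z : Ideal C} [z.IsPrime]
  [z.LiesOver q] {y : Ideal D} [y.IsPrime] [z.LiesOver y] [y.LiesOver p] {n : ℕ}
  (g : R) (hX : S) (hY : D) [IsLocalization.Away g R₁] [IsLocalization.Away hX S₁]
  [IsLocalization.Away hY D₁] [IsLocalization.Away (algebraMap D C hY) C₁]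
  [IsLocalization.Away (algebraMap S C hX) C₁]

include g hX hY in
omit [Algebra R C₁] [IsScalarTower R R₁ C₁] [IsScalarTower R C C₁] in
/-- A standard shrinking of a one-step dévissage at a point is one. -/
theorem shrink (hd : FlatCA.IsOneStepDevissage R S N p C D G n)
    (h1 : ∃ (ξ : PrimeSpectrum (p.Fiber S)) (hξ : ξ ∈ Module.support (p.Fiber S) (FlatCA.fiberMod p S N)),
      ξ.asIdeal = FlatCA.fiberIdeal p q ∧
      FlatMor.localDim (Module.support (p.Fiber S) (FlatCA.fiberMod p S N)) ⟨ξ, hξ⟩ = n)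
    (h3 : ∀ (z₁ : Ideal C) [z₁.IsPrime], z₁.LiesOver y → z₁ = z)
    (h4 : FlatCA.PurelyTranscendental p y)
    (hsurj : Function.Surjective (PrimeSpectrum.comap (algebraMap R₁ D₁)))
    (hgp : g ∉ p) (hXq : hX ∉ q) (hYy : hY ∉ y)
    {f : N →ₗ[S] N₁} (hf : IsBaseChange S₁ f) {f' : G →ₗ[C] G₁} (hf' : IsBaseChange C₁ f')
    [(p.map (algebraMap R R₁)).IsPrime] [(y.map (algebraMap D D₁)).IsPrime]
    [(y.map (algebraMap D D₁)).LiesOver (p.map (algebraMap R R₁))] :
    FlatCA.IsOneStepDevissage R₁ S₁ N₁ (p.map (algebraMap R R₁)) C₁ D₁ G₁ n ∧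
    (∃ (ξ : PrimeSpectrum ((p.map (algebraMap R R₁)).Fiber S₁))
        (hξ : ξ ∈ Module.support ((p.map (algebraMap R R₁)).Fiber S₁)
          (FlatCA.fiberMod (p.map (algebraMap R R₁)) S₁ N₁)),
      ξ.asIdeal = FlatCA.fiberIdeal (p.map (algebraMap R R₁)) (q.map (algebraMap S S₁)) ∧
      FlatMor.localDim (Module.support ((p.map (algebraMap R R₁)).Fiber S₁)
        (FlatCA.fiberMod (p.map (algebraMap R R₁)) S₁ N₁)) ⟨ξ, hξ⟩ = n) ∧
    (z.map (algebraMap C C₁)).LiesOver (q.map (algebraMap S S₁)) ∧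
    (z.map (algebraMap C C₁)).LiesOver (y.map (algebraMap D D₁)) ∧
    (∀ (z₂ : Ideal C₁) [z₂.IsPrime], z₂.LiesOver (y.map (algebraMap D D₁)) →
      z₂ = z.map (algebraMap C C₁)) ∧
    FlatCA.PurelyTranscendental (p.map (algebraMap R R₁)) (y.map (algebraMap D D₁)) := by
  obtain ⟨⟨e⟩, hsC, hfp, hfin, hfinG, hsm, hgi, hdim⟩ := hd
  have : Module.Finite C G := hfinG
  have : Algebra.FinitePresentation S C := hfp
  have : Module.Finite D C := hfin
  have hpoS : Algebra.IsPushout S S₁ C C₁ := isPushout_away hX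
  have hpoD : Algebra.IsPushout D D₁ C C₁ := isPushout_away hY
  have := liesOver_map_away (S₁ := R₁) g p hgp
  have := isPrime_map_away (S₁ := S₁) hX q hXq
  have := liesOver_map_away (S₁ := S₁) hX q hXq
  have := liesOver_map_away (S₁ := D₁) hY y hYy
  have hYz : algebraMap D C hY ∉ z := fun hc => hYy (by rw [z.over_def y]; exact hc)
  have := isPrime_map_away (S₁ := C₁) (algebraMap D C hY) z hYz
  have := liesOver_map_away (S₁ := C₁) (algebraMap D C hY) z hYz
  -- the point of `S₁`
  have hqp : (q.map (algebraMap S S₁)).LiesOver (p.map (algebraMap R R₁)) := by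
    have := Ideal.LiesOver.trans (q.map (algebraMap S S₁)) q p
    refine ⟨?_⟩
    rw [← IsLocalization.map_under (Submonoid.powers g) R₁ ((q.map (algebraMap S S₁)).under R₁),
      Ideal.under_under, ← (q.map (algebraMap S S₁)).over_def p]
  obtain ⟨hqs, hqd⟩ := (exists_localDim_iff p N q n).mp h1
  have hemb := isOpenEmbedding_fibreSupp p N g hX (p.map (algebraMap R R₁)) (N₁ := N₁) hf
  have hq₁ : (⟨q.map (algebraMap S S₁), inferInstance⟩ : PrimeSpectrum S₁) ∈
      fibreSupp (S := S₁) (p.map (algebraMap R R₁)) N₁ := by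
    refine (mem_fibreSupp_iff p N g (p.map (algebraMap R R₁)) hf _).mpr ?_
    have he : PrimeSpectrum.comap (algebraMap S S₁) ⟨q.map (algebraMap S S₁), inferInstance⟩ =
        ⟨q, inferInstance⟩ := PrimeSpectrum.ext ((q.map (algebraMap S S₁)).over_def q).symm
    rw [he]
    exact hqs
  have hfq : (⟨_, (mem_fibreSupp_iff p N g (p.map (algebraMap R R₁)) hf _).mp hq₁⟩ :
      fibreSupp (S := S) p N) = ⟨_, hqs⟩ :=
    Subtype.ext (PrimeSpectrum.ext ((q.map (algebraMap S S₁)).over_def q).symm)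
  have hloc : FlatMor.localDim (fibreSupp (S := S₁) (p.map (algebraMap R R₁)) N₁) ⟨_, hq₁⟩ =
      (n : WithBot ℕ∞) := by
    rw [localDim_openEmbedding hemb, hfq, hqd]
  have : Module.Finite S₁ N₁ := Module.Finite.equiv hf.equiv
  have htop : topologicalKrullDim (fibreSupp (S := S₁) (p.map (algebraMap R R₁)) N₁) =
      (n : WithBot ℕ∞) := by
    rw [supportDim_eq_fibreSupp] at hdim
    rw [topologicalKrullDim_of_openEmbedding hemb ⟨_, hq₁⟩ (by rw [hfq, hqd, hdim]), hdim]
  refine ⟨⟨?_, surjective_middle S S C S₁ S₁ C₁ hsC, finitePresentation_middle S S C S₁ S₁ C₁,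
    finite_middle D D C D₁ D₁ C₁, Module.Finite.equiv hf'.equiv,
    smoothRelDim_localization g hY n hsm, geomIrredFibres_localization g hY hgi hsurj, ?_⟩, ?_, ?_, ?_,
    fun z₂ _ hz₂ => ?_, ?_⟩
  · exact nonempty_equiv_middle S S C S₁ S₁ C₁ e hf hf'
  · rw [supportDim_eq_fibreSupp, htop]
  · exact (exists_localDim_iff _ N₁ _ _).mpr ⟨hq₁, hloc⟩
  · refine ⟨?_⟩
    have := Ideal.LiesOver.trans (z.map (algebraMap C C₁)) z q
    rw [← IsLocalization.map_under (Submonoid.powers hX) S₁ ((z.map (algebraMap C C₁)).under S₁),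
      Ideal.under_under, ← (z.map (algebraMap C C₁)).over_def q]
  · refine ⟨?_⟩
    have := Ideal.LiesOver.trans (z.map (algebraMap C C₁)) z y
    rw [← IsLocalization.map_under (Submonoid.powers hY) D₁ ((z.map (algebraMap C C₁)).under D₁),
      Ideal.under_under, ← (z.map (algebraMap C C₁)).over_def y]
  · have := Ideal.LiesOver.trans z₂ (y.map (algebraMap D D₁)) y
    have hy₂ : (z₂.under C).LiesOver y := ⟨(z₂.over_def y).trans (Ideal.under_under z₂).symm⟩
    rw [← IsLocalization.map_under (Submonoid.powers (algebraMap D C hY)) C₁ z₂, h3 _ hy₂]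
  · exact purelyTranscendental_of_isLocalization (Submonoid.powers hY) y _ (Submonoid.powers g) p _ h4

end Main

section Base

variable {R D : Type u} [CommRing R] [CommRing D] [Algebra R D] {n : ℕ}

/-- The image of a basic open of a smooth algebra contains a basic open around each of its points. -/
theorem exists_basicOpen_le_image (hsm : FlatCA.SmoothRelDim n R D) (p : Ideal R) [p.IsPrime]
    (y : Ideal D) [y.IsPrime] [y.LiesOver p] {w : D} (hw : w ∉ y) :
    ∃ g : R, g ∉ p ∧ ∀ (R₁ D₁ : Type u) [CommRing R₁] [CommRing D₁] [Algebra R R₁] [Algebra D D₁]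
      [Algebra R₁ D₁] [Algebra R D₁] [IsScalarTower R R₁ D₁] [IsScalarTower R D D₁]
      [IsLocalization.Away g R₁] [IsLocalization.Away (w * algebraMap R D g) D₁],
      Function.Surjective (PrimeSpectrum.comap (algebraMap R₁ D₁)) := by
  have : AlgebraicGeometry.SmoothOfRelativeDimension n
      (AlgebraicGeometry.Spec.map (CommRingCat.ofHom (algebraMap R D))) := hsm
  have hsm' : AlgebraicGeometry.Smooth
      (AlgebraicGeometry.Spec.map (CommRingCat.ofHom (algebraMap R D))) :=
    AlgebraicGeometry.SmoothOfRelativeDimension.smooth n _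
  have hopen := (AlgebraicGeometry.Spec.map (CommRingCat.ofHom (algebraMap R D))).isOpenMap
    (PrimeSpectrum.basicOpen w : Set (PrimeSpectrum D)) (PrimeSpectrum.basicOpen w).isOpen
  have hmem : (⟨p, inferInstance⟩ : PrimeSpectrum R) ∈
      PrimeSpectrum.comap (algebraMap R D) '' (PrimeSpectrum.basicOpen w : Set (PrimeSpectrum D)) :=
    ⟨⟨y, inferInstance⟩, hw, PrimeSpectrum.ext (y.over_def p).symm⟩
  obtain ⟨_, ⟨g, rfl⟩, hgp, hsub⟩ :=
    PrimeSpectrum.isTopologicalBasis_basic_opens.exists_subset_of_mem_open hmem hopen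
  refine ⟨g, hgp, fun R₁ D₁ _ _ _ _ _ _ _ _ _ _ x => ?_⟩
  have hx : g ∉ (PrimeSpectrum.comap (algebraMap R R₁) x).asIdeal := fun h =>
    x.isPrime.ne_top (Ideal.eq_top_of_isUnit_mem _ h (IsLocalization.Away.algebraMap_isUnit g))
  obtain ⟨Q, hQw, hQ⟩ := hsub hx
  have hQg : w * algebraMap R D g ∉ Q.asIdeal := fun h => by
    rcases Q.isPrime.mem_or_mem h with h | h
    · exact hQw h
    · exact hx (by rw [← hQ]; exact h)
  have := isPrime_map_away (S₁ := D₁) (w * algebraMap R D g) Q.asIdeal hQg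
  have := liesOver_map_away (S₁ := D₁) (w * algebraMap R D g) Q.asIdeal hQg
  refine ⟨⟨Q.asIdeal.map (algebraMap D D₁), inferInstance⟩,
    PrimeSpectrum.localization_comap_injective R₁ (Submonoid.powers g) ?_⟩
  rw [← hQ]
  apply PrimeSpectrum.ext
  show ((Q.asIdeal.map (algebraMap D D₁)).under R₁).under R = Q.asIdeal.under R
  rw [Ideal.under_under, ← Ideal.under_under (B := D) (Q.asIdeal.map (algebraMap D D₁)),
    ← (Q.asIdeal.map (algebraMap D D₁)).over_def Q.asIdeal]

end Base

end Groth.Agent.H8Props.Devissage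

namespace Groth.Agent.H8Props.Devissage

/-- The map of localizations away from an element and from a multiple of its image. -/
theorem isUnit_map_of_dvd {A B B₁ : Type u} [CommRing A] [CommRing B] [CommRing B₁] [Algebra A B]
    [Algebra B B₁] (a : A) (b : B) [IsLocalization.Away b B₁] (hab : algebraMap A B a ∣ b) :
    IsUnit ((algebraMap B B₁).comp (algebraMap A B) a) :=
  isUnit_of_dvd_unit (map_dvd (algebraMap _ _) hab) (IsLocalization.Away.algebraMap_isUnit b)

end Groth.Agent.H8Props.Devissage
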