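import Groth.Agent.H8Props.Devissage.ShrinkMaps

/-!
# A standard shrinking of a complete dévissage is one
-/

set_option autoImplicit false

universe u

namespace Groth.Agent.H8Props.Devissage.SH

variable {R S : Type u} [CommRing R] [CommRing S] [Algebra R S] {N : Type u} [AddCommGroup N]
  [Module S N] {p : Ideal R} [p.IsPrime] (𝒟 : FlatCA.CompleteDevissage R S N p)
  (g : R) (c : ∀ i, 𝒟.B i) (hX : S) (K : Type u) [Field K] [Algebra (Localization.Away g) K]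

/-- The open of `S` matches the first open. -/
class Start : Prop where
  start : ∀ P : PrimeSpectrum (𝒟.A 0),
    algebraMap S (𝒟.A 0) hX ∈ P.asIdeal ↔ a 𝒟 g c 0 ∈ P.asIdeal

/-- The base surjects below the length. -/
class Covers : Prop where
  cover : ∀ i, i < 𝒟.n → ∀ x : PrimeSpectrum R, g ∉ x.asIdeal →
    ∃ Q : PrimeSpectrum (𝒟.B i), c i ∉ Q.asIdeal ∧
      PrimeSpectrum.comap (algebraMap R (𝒟.B i)) Q = x

noncomputable instance instAlgAA₀ : Algebra (𝒟.A 0) (A' 𝒟 g c K 0) :=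
  instAlgAA 𝒟 g c K ⟨0, 𝒟.pos⟩

instance instLocA₀ : IsLocalization.Away (a 𝒟 g c 0) (A' 𝒟 g c K 0) :=
  instLocA 𝒟 g c K ⟨0, 𝒟.pos⟩

noncomputable instance instAlgRA₀ : Algebra R (A' 𝒟 g c K 0) := instAlgRA 𝒟 g c K ⟨0, 𝒟.pos⟩

instance : IsScalarTower R (Localization.Away g) (A' 𝒟 g c K 0) :=
  IsScalarTower.of_algebraMap_eq fun _ => rfl

instance : IsScalarTower R (𝒟.A 0) (A' 𝒟 g c K 0) :=
  IsScalarTower.of_algebraMap_eq fun r =>
    (show ∀ j : Fin 𝒟.n, algebraMap R (A' 𝒟 g c K j) r =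
      algebraMap (𝒟.A j) (A' 𝒟 g c K j) (algebraMap R (𝒟.A j) r) from
      fun j => IsScalarTower.algebraMap_apply R (𝒟.A j) _ r) ⟨0, 𝒟.pos⟩

noncomputable instance instModA₀M : Module (𝒟.A 0) (M' 𝒟 g c K 0) :=
  instModAiM 𝒟 g c K ⟨0, 𝒟.pos⟩

instance : IsScalarTower (𝒟.A 0) (A' 𝒟 g c K 0) (M' 𝒟 g c K 0) :=
  .of_algebraMap_smul fun _ _ => rfl

/-- The map to the first module. -/
noncomputable def g₀ : 𝒟.M 0 →ₗ[𝒟.A 0] M' 𝒟 g c K 0 := gM 𝒟 g c K ⟨0, 𝒟.pos⟩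

theorem g₀_isBaseChange' : IsBaseChange (A' 𝒟 g c K 0) (g₀ 𝒟 g c K) :=
  gM_isBaseChange 𝒟 g c K ⟨0, 𝒟.pos⟩

noncomputable instance instAlgSA : Algebra S (A' 𝒟 g c K 0) :=
  ((algebraMap (𝒟.A 0) (A' 𝒟 g c K 0)).comp (algebraMap S (𝒟.A 0))).toAlgebra

instance : IsScalarTower S (𝒟.A 0) (A' 𝒟 g c K 0) := IsScalarTower.of_algebraMap_eq fun _ => rfl

noncomputable instance instModSM : Module S (M' 𝒟 g c K 0) :=
  Module.compHom _ (algebraMap S (A' 𝒟 g c K 0))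

instance : IsScalarTower S (A' 𝒟 g c K 0) (M' 𝒟 g c K 0) := .of_algebraMap_smul fun _ _ => rfl

section Start

variable [hs : Start 𝒟 g c hX]

include hs in
theorem isLocalization_start :
    IsLocalization.Away (algebraMap S (𝒟.A 0) hX) (A' 𝒟 g c K 0) :=
  away_of_basicOpen_eq (a 𝒟 g c 0) _ fun P => (hs.start P).symm

include hs in
theorem isUnit_start : IsUnit (algebraMap S (A' 𝒟 g c K 0) hX) := by
  have := isLocalization_start 𝒟 g c hX K
  rw [IsScalarTower.algebraMap_apply S (𝒟.A 0) (A' 𝒟 g c K 0)]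
  exact IsLocalization.Away.algebraMap_isUnit _

noncomputable instance instAlgS₁A : Algebra (Localization.Away hX) (A' 𝒟 g c K 0) :=
  (IsLocalization.Away.lift hX (isUnit_start 𝒟 g c hX K)).toAlgebra

instance : IsScalarTower S (Localization.Away hX) (A' 𝒟 g c K 0) :=
  IsScalarTower.of_algebraMap_eq fun x =>
    (IsLocalization.Away.lift_eq hX (isUnit_start 𝒟 g c hX K) x).symm

theorem isPushout_SA :
    Algebra.IsPushout S (Localization.Away hX) (𝒟.A 0) (A' 𝒟 g c K 0) :=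
  have := isLocalization_start 𝒟 g c hX K
  isPushout_away hX

noncomputable instance instModS₁M : Module (Localization.Away hX) (M' 𝒟 g c K 0) :=
  Module.compHom _ (algebraMap (Localization.Away hX) (A' 𝒟 g c K 0))

instance : IsScalarTower (Localization.Away hX) (A' 𝒟 g c K 0) (M' 𝒟 g c K 0) :=
  .of_algebraMap_smul fun _ _ => rfl

instance : IsScalarTower S (Localization.Away hX) (M' 𝒟 g c K 0) :=
  .of_algebraMap_smul fun x m => by
    show algebraMap (Localization.Away hX) (A' 𝒟 g c K 0) (algebraMap S _ x) • m = _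
    rw [← IsScalarTower.algebraMap_apply]
    rfl

instance : IsScalarTower S (𝒟.A 0) (M' 𝒟 g c K 0) :=
  .of_algebraMap_smul fun _ _ => rfl

theorem g₀_isBaseChange : IsBaseChange (Localization.Away hX)
    ((g₀ 𝒟 g c K).restrictScalars S) :=
  have := isPushout_SA 𝒟 g c hX K
  isBaseChange_restrict (g₀_isBaseChange' 𝒟 g c K)

/-- The identification of the localization of `N` with the first module. -/
noncomputable def isoN :
    LocalizedModule (Submonoid.powers hX) N ≃ₗ[Localization.Away hX] M' 𝒟 g c K 0 :=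
  (IsLocalizedModule.isBaseChange (Submonoid.powers hX) (Localization.Away hX)
    (LocalizedModule.mkLinearMap (Submonoid.powers hX) N)).equiv.symm ≪≫ₗ
    TensorProduct.AlgebraTensorModule.congr (LinearEquiv.refl _ _) 𝒟.isoN ≪≫ₗ
    (g₀_isBaseChange 𝒟 g c hX K).equiv

theorem isoN_mk (x : N) :
    isoN 𝒟 g c hX K (LocalizedModule.mkLinearMap (Submonoid.powers hX) N x) =
      gM 𝒟 g c K ⟨0, 𝒟.pos⟩ (𝒟.isoN x) := by
  show isoN 𝒟 g c hX K (LocalizedModule.mkLinearMap (Submonoid.powers hX) N x) =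
      g₀ 𝒟 g c K (𝒟.isoN x)
  rw [isoN, LinearEquiv.trans_apply, LinearEquiv.trans_apply, IsBaseChange.equiv_symm_apply]
  simp only [TensorProduct.AlgebraTensorModule.congr_tmul, LinearEquiv.refl_apply]
  rw [IsBaseChange.equiv_tmul, one_smul]
  rfl

theorem surjective_SA : Function.Surjective (algebraMap (Localization.Away hX) (A' 𝒟 g c K 0)) :=
  have := isPushout_SA 𝒟 g c hX K
  surjective_middle S S (𝒟.A 0) (Localization.Away hX) (Localization.Away hX) _ 𝒟.surjSA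

theorem fp_SA : Algebra.FinitePresentation (Localization.Away hX) (A' 𝒟 g c K 0) :=
  have := 𝒟.fpSA
  have := isPushout_SA 𝒟 g c hX K
  Algebra.FinitePresentation.equiv (Algebra.IsPushout.equiv S (Localization.Away hX) (𝒟.A 0) _)

variable [Algebra (Localization.Away g) (Localization.Away hX)]
  [IsScalarTower R (Localization.Away g) (Localization.Away hX)]

instance instTowerRSA :
    IsScalarTower (Localization.Away g) (Localization.Away hX) (A' 𝒟 g c K 0) := by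
  refine IsScalarTower.of_algebraMap_eq' (IsLocalization.ringHom_ext (Submonoid.powers g) ?_)
  ext r
  simp only [RingHom.comp_apply]
  rw [← IsScalarTower.algebraMap_apply R (Localization.Away g),
    ← IsScalarTower.algebraMap_apply R (Localization.Away g) (Localization.Away hX),
    IsScalarTower.algebraMap_apply R S (Localization.Away hX),
    ← IsScalarTower.algebraMap_apply S (Localization.Away hX),
    IsScalarTower.algebraMap_apply R (𝒟.A 0) (A' 𝒟 g c K 0),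
    IsScalarTower.algebraMap_apply R S (𝒟.A 0),
    IsScalarTower.algebraMap_apply S (𝒟.A 0) (A' 𝒟 g c K 0)]

end Start

section Step

variable (i : Fin 𝒟.n)

theorem finite_BA : Module.Finite (B' 𝒟 g c K i) (A' 𝒟 g c K i) :=
  have := 𝒟.finiteBA i i.2
  have := isPushout_BA 𝒟 g c K i
  Module.Finite.equiv
    (Algebra.IsPushout.equiv (𝒟.B i) (B' 𝒟 g c K i) (𝒟.A i) (A' 𝒟 g c K i)).toLinearEquiv

theorem finiteM : Module.Finite (A' 𝒟 g c K i) (M' 𝒟 g c K i) :=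
  have := 𝒟.finiteM i i.2
  Module.Finite.equiv (gM_isBaseChange 𝒟 g c K i).equiv

theorem smooth_B : Algebra.Smooth (Localization.Away g) (B' 𝒟 g c K i) := by
  have := 𝒟.smooth i i.2
  have : Algebra.Smooth (𝒟.B i) (B' 𝒟 g c K i) := .of_isLocalization_Away (b 𝒟 g c i)
  have : Algebra.Smooth R (B' 𝒟 g c K i) := Algebra.Smooth.comp R (𝒟.B i) _
  exact ⟨Algebra.FormallySmooth.localization_base (R := R) (Submonoid.powers g),
    Algebra.FinitePresentation.of_restrict_scalars_finitePresentation R _ _⟩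

variable [hc : Covers 𝒟 g c]

include hc in
theorem geomIrred_B : FlatCA.GeomIrredFibres (Localization.Away g) (B' 𝒟 g c K i) :=
  have : IsLocalization.Away (c i * algebraMap R (𝒟.B i) g) (B' 𝒟 g c K i) := instLocB 𝒟 g c K i
  geomIrredFibres_localization g (b 𝒟 g c i) (𝒟.geomIrred i i.2)
    (surjective_comap_away g (c i) (hc.cover i i.2))

end Step

theorem isDomain_tail (i : ℕ) (h : ¬ i < 𝒟.n) : IsDomain (B' 𝒟 g c K i) := by
  have : (cut K (T := Bl 𝒟 g c i) 𝒟.n i).IsPrime := by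
    rw [cut_of_not_lt K h]
    exact Ideal.isPrime_ideal_prod_top
  exact Ideal.Quotient.isDomain _

theorem isDomain_tailA (i : ℕ) (h : ¬ i < 𝒟.n) : IsDomain (A' 𝒟 g c K i) := by
  have : (cut K (T := Al 𝒟 g c i) 𝒟.n i).IsPrime := by
    rw [cut_of_not_lt K h]
    exact Ideal.isPrime_ideal_prod_top
  exact Ideal.Quotient.isDomain _

variable (p₁ : Ideal (Localization.Away g)) [p₁.IsPrime] [hK : (⊥ : Ideal K).LiesOver p₁]
  [hc : Covers 𝒟 g c]

include hK in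
omit [p₁.IsPrime] hc in
theorem bot_liesOver_tail (i : ℕ) (h : ¬ i < 𝒟.n) : (⊥ : Ideal (B' 𝒟 g c K i)).LiesOver p₁ := by
  refine ⟨Ideal.ext fun r => ?_⟩
  rw [hK.over, Ideal.under_def, Ideal.under_def, Ideal.mem_comap, Ideal.mem_comap, Ideal.mem_bot,
    Ideal.mem_bot]
  show _ ↔ mkB 𝒟 g c K i (algebraMap (Localization.Away g) (K × Bl 𝒟 g c i) r) = 0
  rw [← map_zero (mkB 𝒟 g c K i), mkB_eq_iff, cut_of_not_lt K h, sub_zero]
  exact ⟨fun h => ⟨h, trivial⟩, fun h => h.1⟩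

include hK hc in
theorem isPrime_hp (i : ℕ) :
    (p₁.map (algebraMap (Localization.Away g) (B' 𝒟 g c K i))).IsPrime := by
  by_cases h : i < 𝒟.n
  · have := smooth_B 𝒟 g c K ⟨i, h⟩
    exact isPrime_map (Localization.Away g) (B' 𝒟 g c K i) p₁ (geomIrred_B 𝒟 g c K ⟨i, h⟩)
  · have := isDomain_tail 𝒟 g c K i h
    have := bot_liesOver_tail 𝒟 g c K p₁ i h
    have hbot : p₁.map (algebraMap (Localization.Away g) (B' 𝒟 g c K i)) = ⊥ :=
      eq_bot_iff.mpr (Ideal.map_le_iff_le_comap.mpr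
        (le_of_eq ((⊥ : Ideal (B' 𝒟 g c K i)).over_def p₁)))
    rw [hbot]
    exact Ideal.isPrime_bot

/-- The maps from free modules. -/
noncomputable def α' (i : ℕ) : (Fin (𝒟.r i) → B' 𝒟 g c K i) →ₗ[B' 𝒟 g c K i] M' 𝒟 g c K i :=
  (Pi.basisFun (B' 𝒟 g c K i) (Fin (𝒟.r i))).constr (B' 𝒟 g c K i) fun j =>
    (Submodule.Quotient.mk
      (LocalizedModule.mkLinearMap (Submonoid.powers (a 𝒟 g c i)) (𝒟.M i)
        (𝒟.α i (Pi.basisFun (𝒟.B i) (Fin (𝒟.r i)) j)) : Ml 𝒟 g c i) :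
      Ml 𝒟 g c i ⧸ cutM 𝒟 g c K i)

omit [p₁.IsPrime] hK hc in
theorem α'_eq (i : Fin 𝒟.n) : α' 𝒟 g c K i =
    baseChangeFree (𝒟.r i) (𝒟.α i) ((gM 𝒟 g c K i).restrictScalars (𝒟.B i)) := rfl

omit [p₁.IsPrime] hK hc in
theorem range_α' (i : Fin 𝒟.n) : LinearMap.range (α' 𝒟 g c K i) =
    Submodule.span (B' 𝒟 g c K i)
      (gM 𝒟 g c K i '' (LinearMap.range (𝒟.α i) : Set (𝒟.M i))) := by
  rw [α'_eq, range_baseChangeFree]
  rfl

omit [p₁.IsPrime] hK hc in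
theorem cokerLast : Function.Surjective (α' 𝒟 g c K (𝒟.n - 1)) := by
  suffices H : ∀ j : Fin 𝒟.n, Function.Surjective (𝒟.α j) →
      Function.Surjective (α' 𝒟 g c K j) from
    H ⟨𝒟.n - 1, Nat.sub_one_lt_of_lt 𝒟.pos⟩ 𝒟.cokerLast
  intro j hj
  rw [α'_eq]
  exact surjective_baseChangeFree _ _ (gM_isBaseChange_B 𝒟 g c K j) hj

section Next

variable [Shrinks 𝒟 c] [LastPoint 𝒟 g c K] (i : Fin 𝒟.n) (h : (i : ℕ) + 1 < 𝒟.n)

omit [p₁.IsPrime] hK hc in
include h in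
theorem surjective_BA' :
    Function.Surjective (algebraMap (B' 𝒟 g c K i) (A' 𝒟 g c K ((i : ℕ) + 1))) :=
  letI : Algebra (𝒟.A ((i : ℕ) + 1)) (A' 𝒟 g c K ((i : ℕ) + 1)) :=
    instAlgAA 𝒟 g c K ⟨(i : ℕ) + 1, h⟩
  have := isScalarTower_next 𝒟 g c K i h
  have := isPushout_BA' 𝒟 g c K i h
  surjective_middle (𝒟.B i) (𝒟.B i) (𝒟.A ((i : ℕ) + 1)) (B' 𝒟 g c K i) (B' 𝒟 g c K i) _
    (𝒟.surjBA' i h)

omit [p₁.IsPrime] hK hc in
include h in
theorem fp_BA' :
    Algebra.FinitePresentation (B' 𝒟 g c K i) (A' 𝒟 g c K ((i : ℕ) + 1)) :=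
  letI : Algebra (𝒟.A ((i : ℕ) + 1)) (A' 𝒟 g c K ((i : ℕ) + 1)) :=
    instAlgAA 𝒟 g c K ⟨(i : ℕ) + 1, h⟩
  have := isScalarTower_next 𝒟 g c K i h
  have := isPushout_BA' 𝒟 g c K i h
  have := 𝒟.fpBA' i h
  Algebra.FinitePresentation.equiv
    (Algebra.IsPushout.equiv (𝒟.B i) (B' 𝒟 g c K i) (𝒟.A ((i : ℕ) + 1)) _)

omit [p₁.IsPrime] hK hc in
include h in
theorem nonempty_coker :
    Nonempty ((M' 𝒟 g c K i ⧸ LinearMap.range (α' 𝒟 g c K i)) ≃ₗ[B' 𝒟 g c K i]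
      M' 𝒟 g c K ((i : ℕ) + 1)) := by
  let j : Fin 𝒟.n := ⟨(i : ℕ) + 1, h⟩
  let : Algebra (𝒟.A ((i : ℕ) + 1)) (A' 𝒟 g c K ((i : ℕ) + 1)) := instAlgAA 𝒟 g c K j
  have := isScalarTower_next 𝒟 g c K i h
  have := isPushout_BA' 𝒟 g c K i h
  let : Module (𝒟.A ((i : ℕ) + 1)) (M' 𝒟 g c K ((i : ℕ) + 1)) := instModAiM 𝒟 g c K j
  have : IsScalarTower (𝒟.A ((i : ℕ) + 1)) (A' 𝒟 g c K ((i : ℕ) + 1))
      (M' 𝒟 g c K ((i : ℕ) + 1)) := .of_algebraMap_smul fun _ _ => rfl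
  let : Module (𝒟.B i) (M' 𝒟 g c K ((i : ℕ) + 1)) :=
    Module.compHom _ (algebraMap (𝒟.B i) (B' 𝒟 g c K i))
  have : IsScalarTower (𝒟.B i) (B' 𝒟 g c K i) (M' 𝒟 g c K ((i : ℕ) + 1)) :=
    .of_algebraMap_smul fun _ _ => rfl
  have : IsScalarTower (𝒟.B i) (𝒟.A ((i : ℕ) + 1)) (M' 𝒟 g c K ((i : ℕ) + 1)) :=
    .of_algebraMap_smul fun x m => by
      show algebraMap (𝒟.A ((i : ℕ) + 1)) (A' 𝒟 g c K ((i : ℕ) + 1))
          (algebraMap (𝒟.B i) (𝒟.A ((i : ℕ) + 1)) x) • m =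
        algebraMap (B' 𝒟 g c K i) (A' 𝒟 g c K ((i : ℕ) + 1))
          (algebraMap (𝒟.B i) (B' 𝒟 g c K i) x) • m
      rw [← IsScalarTower.algebraMap_apply, ← IsScalarTower.algebraMap_apply]
  exact nonempty_coker_equiv (gM_isBaseChange_B 𝒟 g c K i)
    (isBaseChange_restrict (B := 𝒟.B i) (B' := B' 𝒟 g c K i) (gM_isBaseChange 𝒟 g c K j))
    _ (𝒟.isoCoker i h) _ (range_α' 𝒟 g c K i)

end Next

variable [hpl : p₁.LiesOver p]

include hK hc hpl in
theorem fibreIso (i : Fin 𝒟.n)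
    (hp : (p₁.map (algebraMap (Localization.Away g) (B' 𝒟 g c K i))).IsPrime) :
    Function.Bijective ((α' 𝒟 g c K i).baseChange
      (p₁.map (algebraMap (Localization.Away g) (B' 𝒟 g c K i))).ResidueField) := by
  have hle : p.map (algebraMap R (Localization.Away g)) = p₁ := by
    rw [hpl.over, Ideal.under_def]
    exact IsLocalization.map_under (Submonoid.powers g) _ p₁
  have hP : (p₁.map (algebraMap (Localization.Away g) (B' 𝒟 g c K i))) =
      (p.map (algebraMap R (𝒟.B i))).map (algebraMap (𝒟.B i) (B' 𝒟 g c K i)) := by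
    rw [← hle, Ideal.map_map, Ideal.map_map, ← IsScalarTower.algebraMap_eq,
      ← IsScalarTower.algebraMap_eq]
  have hb : b 𝒟 g c i ∉ p.map (algebraMap R (𝒟.B i)) := fun hm => hp.ne_top
    (Ideal.eq_top_of_isUnit_mem _ (hP ▸ Ideal.mem_map_of_mem _ hm)
      (IsLocalization.Away.algebraMap_isUnit (S := B' 𝒟 g c K i) (b 𝒟 g c i)))
  have : (p₁.map (algebraMap (Localization.Away g) (B' 𝒟 g c K i))).LiesOver
      (p.map (algebraMap R (𝒟.B i))) := by
    rw [hP]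
    exact liesOver_map_away (b 𝒟 g c i) _ hb
  rw [α'_eq]
  exact bijective_baseChangeFree _ _ (gM_isBaseChange_B 𝒟 g c K i) _ _ (𝒟.fibreIso i i.2)

variable [Shrinks 𝒟 c] [LastPoint 𝒟 g c K] [Start 𝒟 g c hX]
  [Algebra (Localization.Away g) (Localization.Away hX)]
  [IsScalarTower R (Localization.Away g) (Localization.Away hX)]

/-- The standard shrinking of a complete dévissage. -/
noncomputable def devissage :
    FlatCA.CompleteDevissage (Localization.Away g) (Localization.Away hX)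
      (LocalizedModule (Submonoid.powers hX) N) p₁ :=
  FlatCA.CompleteDevissage.mk (n := 𝒟.n) (pos := 𝒟.pos) (A := A' 𝒟 g c K) (B := B' 𝒟 g c K)
    (M := M' 𝒟 g c K) (r := 𝒟.r) (hp := isPrime_hp 𝒟 g c K p₁) (α := α' 𝒟 g c K)
    (surjSA := surjective_SA 𝒟 g c hX K) (fpSA := fp_SA 𝒟 g c hX K)
    (surjBA' := fun i h => surjective_BA' 𝒟 g c K ⟨i, Nat.lt_of_succ_lt h⟩ h)
    (fpBA' := fun i h => fp_BA' 𝒟 g c K ⟨i, Nat.lt_of_succ_lt h⟩ h)
    (finiteBA := fun i h => finite_BA 𝒟 g c K ⟨i, h⟩)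
    (smooth := fun i h => smooth_B 𝒟 g c K ⟨i, h⟩)
    (geomIrred := fun i h => geomIrred_B 𝒟 g c K ⟨i, h⟩)
    (finiteM := fun i h => finiteM 𝒟 g c K ⟨i, h⟩)
    (isoN := isoN 𝒟 g c hX K)
    (isoCoker := fun i h => (nonempty_coker 𝒟 g c K ⟨i, Nat.lt_of_succ_lt h⟩ h).some)
    (fibreIso := fun i h => fibreIso 𝒟 g c K p₁ ⟨i, h⟩ (isPrime_hp 𝒟 g c K p₁ i))
    (cokerLast := cokerLast 𝒟 g c K)

end Groth.Agent.H8Props.Devissage.SH
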