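import Groth.Agent.H8Props.Devissage.Elements
import Groth.Agent.H8Props.Devissage.Pieces

/-!
# The rings and modules of a standard shrinking of a complete dévissage

Below the length these are the localizations at `bᵢ = cᵢ g` and at its image in `Aᵢ`. Beyond it the
rings are a field receiving the last smooth algebra, so that there are points over the shrunken base
at every index, and the modules vanish.
-/

set_option autoImplicit false

universe u

namespace Groth.Agent.H8Props.Devissage.SH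

variable {R S : Type u} [CommRing R] [CommRing S] [Algebra R S] {N : Type u} [AddCommGroup N]
  [Module S N] {p : Ideal R} [p.IsPrime] (𝒟 : FlatCA.CompleteDevissage R S N p)
  (g : R) (c : ∀ i, 𝒟.B i)

/-- Consecutive opens agree. -/
class Shrinks : Prop where
  next : ∀ i, i + 1 < 𝒟.n → ∀ P : PrimeSpectrum (𝒟.A (i + 1)),
    algebraMap (𝒟.B i) (𝒟.A (i + 1)) (c i) ∈ P.asIdeal ↔
      algebraMap (𝒟.B (i + 1)) (𝒟.A (i + 1)) (c (i + 1)) ∈ P.asIdeal

/-- The elements cutting out the smooth pieces. -/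
def b (i : ℕ) : 𝒟.B i := c i * algebraMap R (𝒟.B i) g

/-- The elements cutting out the carrying pieces. -/
def a (i : ℕ) : 𝒟.A i := algebraMap (𝒟.B i) (𝒟.A i) (b 𝒟 g c i)

theorem dvd_b (i : ℕ) : algebraMap R (𝒟.B i) g ∣ b 𝒟 g c i := dvd_mul_left _ _

theorem dvd_a (i : ℕ) : algebraMap R (𝒟.A i) g ∣ a 𝒟 g c i := by
  rw [IsScalarTower.algebraMap_apply R (𝒟.B i) (𝒟.A i)]
  exact map_dvd _ (dvd_b 𝒟 g c i)

/-- The localized smooth algebra. -/
abbrev Bl (i : ℕ) : Type u := Localization.Away (b 𝒟 g c i)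

/-- The localized carrying ring. -/
abbrev Al (i : ℕ) : Type u := Localization.Away (a 𝒟 g c i)

/-- The base maps into a localization. -/
noncomputable def baseB (i : ℕ) : Localization.Away g →+* Bl 𝒟 g c i :=
  IsLocalization.Away.lift g (isUnit_map_of_dvd (B₁ := Bl 𝒟 g c i) g _ (dvd_b 𝒟 g c i))

/-- The base maps into a localization of a carrying ring. -/
noncomputable def baseA (i : ℕ) : Localization.Away g →+* Al 𝒟 g c i :=
  IsLocalization.Away.lift g (isUnit_map_of_dvd (B₁ := Al 𝒟 g c i) g _ (dvd_a 𝒟 g c i))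

noncomputable instance instAlgBl (i : ℕ) : Algebra (Localization.Away g) (Bl 𝒟 g c i) :=
  (baseB 𝒟 g c i).toAlgebra

noncomputable instance instAlgAl (i : ℕ) : Algebra (Localization.Away g) (Al 𝒟 g c i) :=
  (baseA 𝒟 g c i).toAlgebra

instance (i : ℕ) : IsScalarTower R (Localization.Away g) (Bl 𝒟 g c i) :=
  IsScalarTower.of_algebraMap_eq fun r => ((IsLocalization.Away.lift_eq g
    (isUnit_map_of_dvd (B₁ := Bl 𝒟 g c i) g _ (dvd_b 𝒟 g c i)) r).trans
      (IsScalarTower.algebraMap_apply R (𝒟.B i) (Bl 𝒟 g c i) r).symm).symm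

instance (i : ℕ) : IsScalarTower R (Localization.Away g) (Al 𝒟 g c i) :=
  IsScalarTower.of_algebraMap_eq fun r => ((IsLocalization.Away.lift_eq g
    (isUnit_map_of_dvd (B₁ := Al 𝒟 g c i) g _ (dvd_a 𝒟 g c i)) r).trans
      (IsScalarTower.algebraMap_apply R (𝒟.A i) (Al 𝒟 g c i) r).symm).symm

theorem isUnit_b_same (i : ℕ) : IsUnit
    ((algebraMap (𝒟.A i) (Al 𝒟 g c i)).comp (algebraMap (𝒟.B i) (𝒟.A i)) (b 𝒟 g c i)) :=
  IsLocalization.Away.algebraMap_isUnit (a 𝒟 g c i)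

/-- The map of the same step. -/
noncomputable def l0 (i : ℕ) : Bl 𝒟 g c i →ₐ[Localization.Away g] Al 𝒟 g c i :=
  let f : Bl 𝒟 g c i →+* Al 𝒟 g c i := IsLocalization.Away.lift (b 𝒟 g c i)
    (isUnit_b_same 𝒟 g c i)
  { f with
    commutes' := fun x => by
      refine RingHom.congr_fun (IsLocalization.ringHom_ext (Submonoid.powers g)
        (j := f.comp (algebraMap _ (Bl 𝒟 g c i))) (k := algebraMap _ (Al 𝒟 g c i))
        (RingHom.ext fun r => ?_)) x
      simp only [RingHom.comp_apply, ← IsScalarTower.algebraMap_apply]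
      rw [IsScalarTower.algebraMap_apply R (𝒟.B i) (Bl 𝒟 g c i)]
      erw [IsLocalization.Away.lift_eq]
      simp only [RingHom.comp_apply, ← IsScalarTower.algebraMap_apply] }

theorem l0_algebraMap (i : ℕ) (x : 𝒟.B i) :
    l0 𝒟 g c i (algebraMap _ _ x) = algebraMap (𝒟.A i) (Al 𝒟 g c i) (algebraMap _ _ x) :=
  IsLocalization.Away.lift_eq (b 𝒟 g c i) (isUnit_b_same 𝒟 g c i) x

variable [hS : Shrinks 𝒟 c]

include hS in
theorem next_iff {i : ℕ} (h : i + 1 < 𝒟.n) (P : PrimeSpectrum (𝒟.A (i + 1))) :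
    algebraMap (𝒟.B i) (𝒟.A (i + 1)) (b 𝒟 g c i) ∈ P.asIdeal ↔ a 𝒟 g c (i + 1) ∈ P.asIdeal := by
  simp only [a, b, map_mul, ← IsScalarTower.algebraMap_apply, P.isPrime.mul_mem_iff_mem_or_mem,
    hS.next i h P]

instance isLocalization_next (i : ℕ) [h : Fact (i + 1 < 𝒟.n)] :
    IsLocalization.Away (algebraMap (𝒟.B i) (𝒟.A (i + 1)) (b 𝒟 g c i)) (Al 𝒟 g c (i + 1)) :=
  away_of_basicOpen_eq (a 𝒟 g c (i + 1)) _ fun P => (next_iff 𝒟 g c h.out P).symm

include hS in
theorem isUnit_b_next (i : ℕ) (h : i + 1 < 𝒟.n) : IsUnit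
    ((algebraMap (𝒟.A (i + 1)) (Al 𝒟 g c (i + 1))).comp (algebraMap (𝒟.B i) (𝒟.A (i + 1)))
      (b 𝒟 g c i)) :=
  have := Fact.mk h
  IsLocalization.Away.algebraMap_isUnit (algebraMap (𝒟.B i) (𝒟.A (i + 1)) (b 𝒟 g c i))

/-- The map to the next step. -/
noncomputable def l1 (i : ℕ) (h : i + 1 < 𝒟.n) :
    Bl 𝒟 g c i →ₐ[Localization.Away g] Al 𝒟 g c (i + 1) :=
  let f : Bl 𝒟 g c i →+* Al 𝒟 g c (i + 1) := IsLocalization.Away.lift (b 𝒟 g c i)
    (isUnit_b_next 𝒟 g c i h)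
  { f with
    commutes' := fun x => by
      refine RingHom.congr_fun (IsLocalization.ringHom_ext (Submonoid.powers g)
        (j := f.comp (algebraMap _ (Bl 𝒟 g c i))) (k := algebraMap _ (Al 𝒟 g c (i + 1)))
        (RingHom.ext fun r => ?_)) x
      simp only [RingHom.comp_apply, ← IsScalarTower.algebraMap_apply]
      rw [IsScalarTower.algebraMap_apply R (𝒟.B i) (Bl 𝒟 g c i)]
      erw [IsLocalization.Away.lift_eq]
      simp only [RingHom.comp_apply, ← IsScalarTower.algebraMap_apply] }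

theorem l1_algebraMap (i : ℕ) (h : i + 1 < 𝒟.n) (x : 𝒟.B i) :
    l1 𝒟 g c i h (algebraMap _ _ x) =
      algebraMap (𝒟.A (i + 1)) (Al 𝒟 g c (i + 1)) (algebraMap _ _ x) :=
  IsLocalization.Away.lift_eq (b 𝒟 g c i) (isUnit_b_next 𝒟 g c i h) x

variable (K : Type u) [Field K] [Algebra (Localization.Away g) K]

open Classical in
/-- The ideal cutting out the piece of a step inside the product with the field. -/
noncomputable def cut {T : Type u} [CommRing T] (n i : ℕ) : Ideal (K × T) :=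
  if i < n then Ideal.prod ⊤ ⊥ else Ideal.prod ⊥ ⊤

omit [Algebra (Localization.Away g) K] in
theorem cut_of_lt {T : Type u} [CommRing T] {n i : ℕ} (h : i < n) :
    cut K (T := T) n i = Ideal.prod ⊤ ⊥ := by rw [cut, if_pos h]

omit [Algebra (Localization.Away g) K] in
theorem cut_of_not_lt {T : Type u} [CommRing T] {n i : ℕ} (h : ¬ i < n) :
    cut K (T := T) n i = Ideal.prod ⊥ ⊤ := by rw [cut, if_neg h]

/-- The smooth algebras of the shrinking. -/
def B' (i : ℕ) : Type u := (K × Bl 𝒟 g c i) ⧸ cut K (T := Bl 𝒟 g c i) 𝒟.n i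

/-- The carrying rings of the shrinking. -/
def A' (i : ℕ) : Type u := (K × Al 𝒟 g c i) ⧸ cut K (T := Al 𝒟 g c i) 𝒟.n i

noncomputable instance instRingB' (i : ℕ) : CommRing (B' 𝒟 g c K i) :=
  inferInstanceAs (CommRing ((K × Bl 𝒟 g c i) ⧸ cut K (T := Bl 𝒟 g c i) 𝒟.n i))

noncomputable instance instRingA' (i : ℕ) : CommRing (A' 𝒟 g c K i) :=
  inferInstanceAs (CommRing ((K × Al 𝒟 g c i) ⧸ cut K (T := Al 𝒟 g c i) 𝒟.n i))

noncomputable instance instAlgB' (i : ℕ) : Algebra (Localization.Away g) (B' 𝒟 g c K i) :=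
  inferInstanceAs (Algebra (Localization.Away g) ((K × Bl 𝒟 g c i) ⧸ cut K (T := Bl 𝒟 g c i) 𝒟.n i))

noncomputable instance instAlgA' (i : ℕ) : Algebra (Localization.Away g) (A' 𝒟 g c K i) :=
  inferInstanceAs (Algebra (Localization.Away g) ((K × Al 𝒟 g c i) ⧸ cut K (T := Al 𝒟 g c i) 𝒟.n i))

/-- The projection to a smooth algebra. -/
noncomputable def mkB (i : ℕ) : K × Bl 𝒟 g c i →ₐ[Localization.Away g] B' 𝒟 g c K i :=
  Ideal.Quotient.mkₐ _ _

/-- The projection to a carrying ring. -/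
noncomputable def mkA (i : ℕ) : K × Al 𝒟 g c i →ₐ[Localization.Away g] A' 𝒟 g c K i :=
  Ideal.Quotient.mkₐ _ _

omit hS in
theorem mkB_eq_iff {i : ℕ} {x y : K × Bl 𝒟 g c i} :
    mkB 𝒟 g c K i x = mkB 𝒟 g c K i y ↔ x - y ∈ cut K 𝒟.n i := Ideal.Quotient.eq

omit hS in
theorem mkA_eq_iff {i : ℕ} {x y : K × Al 𝒟 g c i} :
    mkA 𝒟 g c K i x = mkA 𝒟 g c K i y ↔ x - y ∈ cut K 𝒟.n i := Ideal.Quotient.eq

/-- The localized smooth algebra maps to the piece of its step. -/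
noncomputable def ιB (i : Fin 𝒟.n) : Bl 𝒟 g c i →ₐ[Localization.Away g] B' 𝒟 g c K i where
  toFun x := mkB 𝒟 g c K i (0, x)
  map_one' := (mkB_eq_iff 𝒟 g c K).mpr (by
    rw [cut_of_lt K i.2]
    exact ⟨trivial, sub_self _⟩) |>.trans (map_one _)
  map_mul' x y := by rw [← map_mul]; simp
  map_zero' := map_zero (mkB 𝒟 g c K i)
  map_add' x y := by rw [← map_add]; simp
  commutes' r := (mkB_eq_iff 𝒟 g c K).mpr (by
    rw [cut_of_lt K i.2]
    exact ⟨trivial, sub_self _⟩) |>.trans ((mkB 𝒟 g c K i).commutes r)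

/-- The localized carrying ring maps to the piece of its step. -/
noncomputable def ιA (i : Fin 𝒟.n) : Al 𝒟 g c i →ₐ[Localization.Away g] A' 𝒟 g c K i where
  toFun x := mkA 𝒟 g c K i (0, x)
  map_one' := (mkA_eq_iff 𝒟 g c K).mpr (by
    rw [cut_of_lt K i.2]
    exact ⟨trivial, sub_self _⟩) |>.trans (map_one _)
  map_mul' x y := by rw [← map_mul]; simp
  map_zero' := map_zero (mkA 𝒟 g c K i)
  map_add' x y := by rw [← map_add]; simp
  commutes' r := (mkA_eq_iff 𝒟 g c K).mpr (by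
    rw [cut_of_lt K i.2]
    exact ⟨trivial, sub_self _⟩) |>.trans ((mkA 𝒟 g c K i).commutes r)

omit hS in
theorem ιB_bijective (i : Fin 𝒟.n) : Function.Bijective (ιB 𝒟 g c K i) := by
  refine ⟨fun x y h => ?_, fun z => ?_⟩
  · have h' := (mkB_eq_iff 𝒟 g c K).mp h
    rw [cut_of_lt K i.2] at h'
    exact sub_eq_zero.mp h'.2
  · obtain ⟨⟨k, x⟩, rfl⟩ : ∃ w, mkB 𝒟 g c K i w = z := Ideal.Quotient.mk_surjective z
    refine ⟨x, (mkB_eq_iff 𝒟 g c K).mpr ?_⟩
    rw [cut_of_lt K i.2]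
    exact ⟨trivial, sub_self x⟩

omit hS in
theorem ιA_bijective (i : Fin 𝒟.n) : Function.Bijective (ιA 𝒟 g c K i) := by
  refine ⟨fun x y h => ?_, fun z => ?_⟩
  · have h' := (mkA_eq_iff 𝒟 g c K).mp h
    rw [cut_of_lt K i.2] at h'
    exact sub_eq_zero.mp h'.2
  · obtain ⟨⟨k, x⟩, rfl⟩ : ∃ w, mkA 𝒟 g c K i w = z := Ideal.Quotient.mk_surjective z
    refine ⟨x, (mkA_eq_iff 𝒟 g c K).mpr ?_⟩
    rw [cut_of_lt K i.2]
    exact ⟨trivial, sub_self x⟩

/-- The field maps to the carrying rings beyond the length. -/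
noncomputable def kA (i : ℕ) (h : ¬ i < 𝒟.n) : K →ₐ[Localization.Away g] A' 𝒟 g c K i where
  toFun x := mkA 𝒟 g c K i (x, 0)
  map_one' := (mkA_eq_iff 𝒟 g c K).mpr (by
    rw [cut_of_not_lt K h]
    exact ⟨sub_self _, trivial⟩) |>.trans (map_one _)
  map_mul' x y := by rw [← map_mul]; simp
  map_zero' := map_zero (mkA 𝒟 g c K i)
  map_add' x y := by rw [← map_add]; simp
  commutes' r := (mkA_eq_iff 𝒟 g c K).mpr (by
    rw [cut_of_not_lt K h]
    exact ⟨sub_self _, trivial⟩) |>.trans ((mkA 𝒟 g c K i).commutes r)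

/-- The map to the carrying ring of the same step. -/
noncomputable def β (i : ℕ) : B' 𝒟 g c K i →ₐ[Localization.Away g] A' 𝒟 g c K i :=
  Ideal.Quotient.liftₐ _ ((mkA 𝒟 g c K i).comp
    ((AlgHom.fst _ K (Bl 𝒟 g c i)).prod ((l0 𝒟 g c i).comp (AlgHom.snd _ K _)))) fun x hx => by
    refine Ideal.Quotient.eq_zero_iff_mem.mpr ?_
    by_cases h : i < 𝒟.n
    · rw [cut_of_lt K h] at hx ⊢
      exact ⟨trivial, by
        show l0 𝒟 g c i x.2 = 0
        rw [show x.2 = 0 from hx.2, map_zero]⟩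
    · rw [cut_of_not_lt K h] at hx ⊢
      exact ⟨hx.1, trivial⟩

variable (π : Bl 𝒟 g c (𝒟.n - 1) →ₐ[Localization.Away g] K)

/-- The map to the field. -/
noncomputable def τ (i : ℕ) : K × Bl 𝒟 g c i →ₐ[Localization.Away g] K :=
  if h : i + 1 = 𝒟.n then
    (show Bl 𝒟 g c i →ₐ[Localization.Away g] K by
      obtain rfl : i = 𝒟.n - 1 := by omega
      exact π).comp (AlgHom.snd _ K _)
  else AlgHom.fst _ K _

/-- The map to the carrying ring of the next step. -/
noncomputable def β' (i : ℕ) : B' 𝒟 g c K i →ₐ[Localization.Away g] A' 𝒟 g c K (i + 1) :=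
  if h : i + 1 < 𝒟.n then
    Ideal.Quotient.liftₐ _ ((mkA 𝒟 g c K (i + 1)).comp
      ((AlgHom.fst _ K (Bl 𝒟 g c i)).prod ((l1 𝒟 g c i h).comp (AlgHom.snd _ K _)))) fun x hx => by
      refine Ideal.Quotient.eq_zero_iff_mem.mpr ?_
      rw [cut_of_lt K (Nat.lt_of_succ_lt h)] at hx
      rw [cut_of_lt K h]
      exact ⟨trivial, by
        show l1 𝒟 g c i h x.2 = 0
        rw [show x.2 = 0 from hx.2, map_zero]⟩
  else
    Ideal.Quotient.liftₐ _ ((kA 𝒟 g c K (i + 1) h).comp (τ 𝒟 g c K π i)) fun x hx => by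
      show kA 𝒟 g c K (i + 1) h (τ 𝒟 g c K π i x) = 0
      by_cases he : i + 1 = 𝒟.n
      · rw [cut_of_lt K (by omega)] at hx
        rw [τ, dif_pos he, AlgHom.comp_apply, AlgHom.snd_apply, show x.2 = 0 from hx.2, map_zero,
          map_zero]
      · rw [cut_of_not_lt K (by omega)] at hx
        rw [τ, dif_neg he, AlgHom.fst_apply, show x.1 = 0 from hx.1, map_zero]

end Groth.Agent.H8Props.Devissage.SH
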