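import Groth.Agent.H8Props.Devissage.ShrinkPoints

/-!
# The field beyond the length, and the base of a standard shrinking
-/

set_option autoImplicit false

universe u

namespace Groth.Agent.H8Props.Devissage.SH

variable {R S : Type u} [CommRing R] [CommRing S] [Algebra R S] {N : Type u} [AddCommGroup N]
  [Module S N] {p : Ideal R} [p.IsPrime] {q : Ideal S} [q.IsPrime]
  (𝒟 : FlatCA.CompleteDevissage R S N p) (𝒜 : FlatCA.CompleteDevissageAt R S N p q 𝒟)
  (g : R) (c : ∀ i, 𝒟.B i) [hv : Avoids 𝒟 𝒜 g c]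

instance instPrimeLast : (𝒜.qB (𝒟.n - 1)).IsPrime := 𝒜.hqB _

/-- The field beyond the length. -/
abbrev LastField : Type u := (𝒜.qB (𝒟.n - 1)).ResidueField

include hv in
theorem isUnit_g : IsUnit (algebraMap R (LastField 𝒟 𝒜) g) := by
  rw [IsScalarTower.algebraMap_apply R (𝒟.B (𝒟.n - 1)) (LastField 𝒟 𝒜), isUnit_iff_ne_zero, Ne,
    Ideal.algebraMap_residueField_eq_zero]
  exact algebraMap_notMem_qB 𝒜 _ hv.avoid_base

include hv in
theorem isUnit_b : IsUnit (algebraMap (𝒟.B (𝒟.n - 1)) (LastField 𝒟 𝒜) (b 𝒟 g c (𝒟.n - 1))) := by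
  rw [isUnit_iff_ne_zero, Ne, Ideal.algebraMap_residueField_eq_zero]
  exact b_notMem 𝒟 𝒜 g c ⟨𝒟.n - 1, Nat.sub_one_lt_of_lt 𝒟.pos⟩

/-- The field as an algebra over the shrunken base. -/
@[reducible] noncomputable def fieldAlgebra : Algebra (Localization.Away g) (LastField 𝒟 𝒜) :=
  (IsLocalization.Away.lift g (isUnit_g 𝒟 𝒜 g c)).toAlgebra

/-- The point of the last smooth algebra in the field. -/
noncomputable def fieldPoint :
    letI := fieldAlgebra 𝒟 𝒜 g c
    LastPoint 𝒟 g c (LastField 𝒟 𝒜) :=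
  letI := fieldAlgebra 𝒟 𝒜 g c
  let f : Bl 𝒟 g c (𝒟.n - 1) →+* LastField 𝒟 𝒜 :=
    IsLocalization.Away.lift (b 𝒟 g c (𝒟.n - 1)) (isUnit_b 𝒟 𝒜 g c)
  ⟨{ f with
    commutes' := fun x => by
      refine RingHom.congr_fun (IsLocalization.ringHom_ext (Submonoid.powers g)
        (j := f.comp (algebraMap _ (Bl 𝒟 g c (𝒟.n - 1))))
        (k := algebraMap (Localization.Away g) (LastField 𝒟 𝒜)) (RingHom.ext fun r => ?_)) x
      simp only [RingHom.comp_apply, ← IsScalarTower.algebraMap_apply]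
      rw [IsScalarTower.algebraMap_apply R (𝒟.B (𝒟.n - 1)) (Bl 𝒟 g c (𝒟.n - 1))]
      erw [IsLocalization.Away.lift_eq, IsLocalization.Away.lift_eq]
      exact (IsScalarTower.algebraMap_apply R (𝒟.B (𝒟.n - 1)) (LastField 𝒟 𝒜) r).symm }⟩

theorem fieldLiesOver :
    letI := fieldAlgebra 𝒟 𝒜 g c
    (⊥ : Ideal (LastField 𝒟 𝒜)).LiesOver (p.map (algebraMap R (Localization.Away g))) := by
  let := fieldAlgebra 𝒟 𝒜 g c
  have : IsScalarTower R (Localization.Away g) (LastField 𝒟 𝒜) :=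
    IsScalarTower.of_algebraMap_eq fun r =>
      (IsLocalization.Away.lift_eq g (isUnit_g 𝒟 𝒜 g c) r).symm
  have := 𝒜.overB (𝒟.n - 1)
  have : (⊥ : Ideal (LastField 𝒟 𝒜)).LiesOver p := ⟨by
    ext r
    rw [Ideal.under_def, Ideal.mem_comap, Ideal.mem_bot,
      IsScalarTower.algebraMap_apply R (𝒟.B (𝒟.n - 1)) (LastField 𝒟 𝒜),
      Ideal.algebraMap_residueField_eq_zero]
    exact Ideal.mem_of_liesOver (𝒜.qB (𝒟.n - 1)) p r⟩
  exact liesOver_localization g _ _

end Groth.Agent.H8Props.Devissage.SH
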