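import Groth.Agent.H8Props.Devissage.ShrinkData

/-!
# Structure maps and modules of a standard shrinking of a complete dévissage
-/

set_option autoImplicit false

universe u

namespace Groth.Agent.H8Props.Devissage.SH

variable {R S : Type u} [CommRing R] [CommRing S] [Algebra R S] {N : Type u} [AddCommGroup N]
  [Module S N] {p : Ideal R} [p.IsPrime] (𝒟 : FlatCA.CompleteDevissage R S N p)
  (g : R) (c : ∀ i, 𝒟.B i) (K : Type u) [Field K] [Algebra (Localization.Away g) K]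

/-- The last smooth algebra has a point in the field. -/
class LastPoint where
  /-- the point -/
  π : Bl 𝒟 g c (𝒟.n - 1) →ₐ[Localization.Away g] K

noncomputable instance instAlgBA (i : ℕ) : Algebra (B' 𝒟 g c K i) (A' 𝒟 g c K i) :=
  (β 𝒟 g c K i).toRingHom.toAlgebra

instance (i : ℕ) : IsScalarTower (Localization.Away g) (B' 𝒟 g c K i) (A' 𝒟 g c K i) :=
  IsScalarTower.of_algebraMap_eq fun r => ((β 𝒟 g c K i).commutes r).symm

section Next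

variable [Shrinks 𝒟 c] [LastPoint 𝒟 g c K]

noncomputable instance instAlgBA' (i : ℕ) : Algebra (B' 𝒟 g c K i) (A' 𝒟 g c K (i + 1)) :=
  (β' 𝒟 g c K LastPoint.π i).toRingHom.toAlgebra

instance (i : ℕ) : IsScalarTower (Localization.Away g) (B' 𝒟 g c K i) (A' 𝒟 g c K (i + 1)) :=
  IsScalarTower.of_algebraMap_eq fun r => ((β' 𝒟 g c K LastPoint.π i).commutes r).symm

end Next

/-- The localized module, to be acted on by the product with the field. -/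
def Ml (i : ℕ) : Type u := LocalizedModule (Submonoid.powers (a 𝒟 g c i)) (𝒟.M i)

noncomputable instance instGrpMl (i : ℕ) : AddCommGroup (Ml 𝒟 g c i) :=
  inferInstanceAs (AddCommGroup (LocalizedModule (Submonoid.powers (a 𝒟 g c i)) (𝒟.M i)))

noncomputable instance instModMl (i : ℕ) : Module (Al 𝒟 g c i) (Ml 𝒟 g c i) :=
  inferInstanceAs (Module (Localization (Submonoid.powers (a 𝒟 g c i)))
    (LocalizedModule (Submonoid.powers (a 𝒟 g c i)) (𝒟.M i)))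

noncomputable instance instModMlA (i : ℕ) : Module (𝒟.A i) (Ml 𝒟 g c i) :=
  inferInstanceAs (Module (𝒟.A i) (LocalizedModule (Submonoid.powers (a 𝒟 g c i)) (𝒟.M i)))

instance (i : ℕ) : IsScalarTower (𝒟.A i) (Al 𝒟 g c i) (Ml 𝒟 g c i) :=
  inferInstanceAs (IsScalarTower (𝒟.A i) (Localization (Submonoid.powers (a 𝒟 g c i)))
    (LocalizedModule (Submonoid.powers (a 𝒟 g c i)) (𝒟.M i)))

noncomputable instance instModMlProd (i : ℕ) : Module (K × Al 𝒟 g c i) (Ml 𝒟 g c i) :=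
  Module.compHom _ (RingHom.snd K (Al 𝒟 g c i))

/-- The submodule cutting out the module of a step. -/
noncomputable def cutM (i : ℕ) : Submodule (K × Al 𝒟 g c i) (Ml 𝒟 g c i) :=
  cut K (T := Al 𝒟 g c i) 𝒟.n i • ⊤

/-- The modules of the shrinking. -/
def M' (i : ℕ) : Type u := Ml 𝒟 g c i ⧸ cutM 𝒟 g c K i

noncomputable instance instGrpM' (i : ℕ) : AddCommGroup (M' 𝒟 g c K i) :=
  inferInstanceAs (AddCommGroup (Ml 𝒟 g c i ⧸ cutM 𝒟 g c K i))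

noncomputable instance instModAM' (i : ℕ) : Module (A' 𝒟 g c K i) (M' 𝒟 g c K i) :=
  inferInstanceAs (Module ((K × Al 𝒟 g c i) ⧸ cut K (T := Al 𝒟 g c i) 𝒟.n i)
    (Ml 𝒟 g c i ⧸ cut K (T := Al 𝒟 g c i) 𝒟.n i • (⊤ : Submodule (K × Al 𝒟 g c i) (Ml 𝒟 g c i))))

noncomputable instance instModRM' (i : ℕ) : Module (Localization.Away g) (M' 𝒟 g c K i) :=
  Module.compHom _ (algebraMap (Localization.Away g) (A' 𝒟 g c K i))

noncomputable instance instModBM' (i : ℕ) : Module (B' 𝒟 g c K i) (M' 𝒟 g c K i) :=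
  Module.compHom _ (algebraMap (B' 𝒟 g c K i) (A' 𝒟 g c K i))

instance (i : ℕ) : IsScalarTower (B' 𝒟 g c K i) (A' 𝒟 g c K i) (M' 𝒟 g c K i) :=
  .of_algebraMap_smul fun _ _ => rfl

instance (i : ℕ) : IsScalarTower (Localization.Away g) (B' 𝒟 g c K i) (M' 𝒟 g c K i) :=
  .of_algebraMap_smul fun r x => by
    show algebraMap (B' 𝒟 g c K i) (A' 𝒟 g c K i) (algebraMap _ _ r) • x = _
    rw [← IsScalarTower.algebraMap_apply]
    rfl

section Next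

variable [Shrinks 𝒟 c] [LastPoint 𝒟 g c K]

noncomputable instance instModBM'' (i : ℕ) : Module (B' 𝒟 g c K i) (M' 𝒟 g c K (i + 1)) :=
  Module.compHom _ (algebraMap (B' 𝒟 g c K i) (A' 𝒟 g c K (i + 1)))

instance (i : ℕ) : IsScalarTower (B' 𝒟 g c K i) (A' 𝒟 g c K (i + 1)) (M' 𝒟 g c K (i + 1)) :=
  .of_algebraMap_smul fun _ _ => rfl

end Next

section Step

variable (i : Fin 𝒟.n)

noncomputable instance instAlgBB : Algebra (𝒟.B i) (B' 𝒟 g c K i) :=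
  ((ιB 𝒟 g c K i).toRingHom.comp (algebraMap (𝒟.B i) (Bl 𝒟 g c i))).toAlgebra

noncomputable instance instAlgAA : Algebra (𝒟.A i) (A' 𝒟 g c K i) :=
  ((ιA 𝒟 g c K i).toRingHom.comp (algebraMap (𝒟.A i) (Al 𝒟 g c i))).toAlgebra

noncomputable instance instAlgRB : Algebra R (B' 𝒟 g c K i) :=
  ((algebraMap (Localization.Away g) (B' 𝒟 g c K i)).comp (algebraMap R _)).toAlgebra

noncomputable instance instAlgRA : Algebra R (A' 𝒟 g c K i) :=
  ((algebraMap (Localization.Away g) (A' 𝒟 g c K i)).comp (algebraMap R _)).toAlgebra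

instance : IsScalarTower R (Localization.Away g) (B' 𝒟 g c K i) :=
  IsScalarTower.of_algebraMap_eq fun _ => rfl

instance : IsScalarTower R (Localization.Away g) (A' 𝒟 g c K i) :=
  IsScalarTower.of_algebraMap_eq fun _ => rfl

instance : IsScalarTower R (𝒟.B i) (B' 𝒟 g c K i) := IsScalarTower.of_algebraMap_eq fun r => by
  show algebraMap (Localization.Away g) (B' 𝒟 g c K i) (algebraMap R _ r) =
    ιB 𝒟 g c K i (algebraMap (𝒟.B i) (Bl 𝒟 g c i) (algebraMap R _ r))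
  rw [← IsScalarTower.algebraMap_apply R (𝒟.B i) (Bl 𝒟 g c i),
    IsScalarTower.algebraMap_apply R (Localization.Away g) (Bl 𝒟 g c i), AlgHom.commutes]

instance : IsScalarTower R (𝒟.A i) (A' 𝒟 g c K i) := IsScalarTower.of_algebraMap_eq fun r => by
  show algebraMap (Localization.Away g) (A' 𝒟 g c K i) (algebraMap R _ r) =
    ιA 𝒟 g c K i (algebraMap (𝒟.A i) (Al 𝒟 g c i) (algebraMap R _ r))
  rw [← IsScalarTower.algebraMap_apply R (𝒟.A i) (Al 𝒟 g c i),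
    IsScalarTower.algebraMap_apply R (Localization.Away g) (Al 𝒟 g c i), AlgHom.commutes]

noncomputable instance instAlgBiA : Algebra (𝒟.B i) (A' 𝒟 g c K i) :=
  ((algebraMap (𝒟.A i) (A' 𝒟 g c K i)).comp (algebraMap (𝒟.B i) (𝒟.A i))).toAlgebra

instance : IsScalarTower (𝒟.B i) (𝒟.A i) (A' 𝒟 g c K i) :=
  IsScalarTower.of_algebraMap_eq fun _ => rfl

instance : IsScalarTower (𝒟.B i) (B' 𝒟 g c K i) (A' 𝒟 g c K i) :=
  IsScalarTower.of_algebraMap_eq fun x => by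
    show ιA 𝒟 g c K i (algebraMap (𝒟.A i) (Al 𝒟 g c i) (algebraMap (𝒟.B i) (𝒟.A i) x)) =
      mkA 𝒟 g c K i (0, l0 𝒟 g c i (algebraMap (𝒟.B i) (Bl 𝒟 g c i) x))
    rw [l0_algebraMap]
    rfl

instance instLocB : IsLocalization.Away (b 𝒟 g c i) (B' 𝒟 g c K i) :=
  IsLocalization.isLocalization_of_algEquiv (Submonoid.powers (b 𝒟 g c i))
    (AlgEquiv.ofRingEquiv (f := RingEquiv.ofBijective (ιB 𝒟 g c K i).toRingHom
      (ιB_bijective 𝒟 g c K i)) fun _ => rfl)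

instance instLocA : IsLocalization.Away (a 𝒟 g c i) (A' 𝒟 g c K i) :=
  IsLocalization.isLocalization_of_algEquiv (Submonoid.powers (a 𝒟 g c i))
    (AlgEquiv.ofRingEquiv (f := RingEquiv.ofBijective (ιA 𝒟 g c K i).toRingHom
      (ιA_bijective 𝒟 g c K i)) fun _ => rfl)

instance instLocBA : IsLocalization.Away (algebraMap (𝒟.B i) (𝒟.A i) (b 𝒟 g c i)) (A' 𝒟 g c K i) :=
  instLocA 𝒟 g c K i

theorem isPushout_BA : Algebra.IsPushout (𝒟.B i) (B' 𝒟 g c K i) (𝒟.A i) (A' 𝒟 g c K i) :=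
  isPushout_away (b 𝒟 g c i)

noncomputable instance instModAiM : Module (𝒟.A i) (M' 𝒟 g c K i) :=
  Module.compHom _ (algebraMap (𝒟.A i) (A' 𝒟 g c K i))

instance : IsScalarTower (𝒟.A i) (A' 𝒟 g c K i) (M' 𝒟 g c K i) :=
  .of_algebraMap_smul fun _ _ => rfl

theorem cutM_eq_bot : cutM 𝒟 g c K i = ⊥ := by
  rw [cutM, eq_bot_iff, Submodule.smul_le]
  rintro ⟨k, x⟩ hx m -
  rw [cut_of_lt K i.2] at hx
  show x • m ∈ _
  rw [show x = 0 from hx.2, zero_smul]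
  exact Submodule.zero_mem _

/-- The module of a step is the localization. -/
noncomputable def equivM : Ml 𝒟 g c i ≃ₗ[𝒟.A i] M' 𝒟 g c K i :=
  LinearEquiv.ofBijective
    { toFun := fun m => (show M' 𝒟 g c K i from (Submodule.Quotient.mk m : Ml 𝒟 g c i ⧸ cutM 𝒟 g c K i))
      map_add' := fun _ _ => rfl
      map_smul' := fun x m => by
        show (Submodule.Quotient.mk (x • m) : Ml 𝒟 g c i ⧸ cutM 𝒟 g c K i) = _
        rw [← algebraMap_smul (Al 𝒟 g c i) x m]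
        rfl }
    ⟨fun x y h => by
        have h' := (Submodule.Quotient.eq (cutM 𝒟 g c K i)).mp h
        rw [cutM_eq_bot, Submodule.mem_bot, sub_eq_zero] at h'
        exact h',
      Submodule.Quotient.mk_surjective _⟩

/-- The map to the module of a step. -/
noncomputable def gM : 𝒟.M i →ₗ[𝒟.A i] M' 𝒟 g c K i :=
  (equivM 𝒟 g c K i).toLinearMap ∘ₗ
    (LocalizedModule.mkLinearMap (Submonoid.powers (a 𝒟 g c i)) (𝒟.M i) :
      𝒟.M i →ₗ[𝒟.A i] Ml 𝒟 g c i)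

instance instLocM : IsLocalizedModule (Submonoid.powers (a 𝒟 g c i)) (gM 𝒟 g c K i) :=
  IsLocalizedModule.of_linearEquiv (Submonoid.powers (a 𝒟 g c i))
    (LocalizedModule.mkLinearMap (Submonoid.powers (a 𝒟 g c i)) (𝒟.M i)) (equivM 𝒟 g c K i)

theorem gM_isBaseChange : IsBaseChange (A' 𝒟 g c K i) (gM 𝒟 g c K i) :=
  IsLocalizedModule.isBaseChange (Submonoid.powers (a 𝒟 g c i)) _ _

noncomputable instance instModBiM : Module (𝒟.B i) (M' 𝒟 g c K i) :=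
  Module.compHom _ (algebraMap (𝒟.B i) (B' 𝒟 g c K i))

instance : IsScalarTower (𝒟.B i) (B' 𝒟 g c K i) (M' 𝒟 g c K i) :=
  .of_algebraMap_smul fun _ _ => rfl

instance : IsScalarTower (𝒟.B i) (𝒟.A i) (M' 𝒟 g c K i) :=
  .of_algebraMap_smul fun x m => by
    show algebraMap (𝒟.A i) (A' 𝒟 g c K i) (algebraMap (𝒟.B i) (𝒟.A i) x) • m =
      algebraMap (B' 𝒟 g c K i) (A' 𝒟 g c K i) (algebraMap (𝒟.B i) (B' 𝒟 g c K i) x) • m
    rw [← IsScalarTower.algebraMap_apply, ← IsScalarTower.algebraMap_apply]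

theorem gM_isBaseChange_B :
    IsBaseChange (B' 𝒟 g c K i) ((gM 𝒟 g c K i).restrictScalars (𝒟.B i)) :=
  have := isPushout_BA 𝒟 g c K i
  isBaseChange_restrict (gM_isBaseChange 𝒟 g c K i)

section Next

variable [Shrinks 𝒟 c] [LastPoint 𝒟 g c K]

noncomputable instance instAlgBiA' : Algebra (𝒟.B i) (A' 𝒟 g c K ((i : ℕ) + 1)) :=
  ((algebraMap (B' 𝒟 g c K i) (A' 𝒟 g c K ((i : ℕ) + 1))).comp
    (algebraMap (𝒟.B i) (B' 𝒟 g c K i))).toAlgebra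

instance : IsScalarTower (𝒟.B i) (B' 𝒟 g c K i) (A' 𝒟 g c K ((i : ℕ) + 1)) :=
  IsScalarTower.of_algebraMap_eq fun _ => rfl

theorem algebraMap_next (h : (i : ℕ) + 1 < 𝒟.n) (x : 𝒟.B i) :
    algebraMap (𝒟.B i) (A' 𝒟 g c K ((i : ℕ) + 1)) x =
      ιA 𝒟 g c K ⟨(i : ℕ) + 1, h⟩ (algebraMap (𝒟.A ((i : ℕ) + 1)) (Al 𝒟 g c ((i : ℕ) + 1))
        (algebraMap (𝒟.B i) (𝒟.A ((i : ℕ) + 1)) x)) := by
  rw [← l1_algebraMap 𝒟 g c i h]
  show β' 𝒟 g c K LastPoint.π i (ιB 𝒟 g c K i (algebraMap (𝒟.B i) (Bl 𝒟 g c i) x)) = _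
  rw [β', dif_pos h]
  rfl

theorem isScalarTower_next (h : (i : ℕ) + 1 < 𝒟.n) :
    letI : Algebra (𝒟.A ((i : ℕ) + 1)) (A' 𝒟 g c K ((i : ℕ) + 1)) :=
      instAlgAA 𝒟 g c K ⟨(i : ℕ) + 1, h⟩
    IsScalarTower (𝒟.B i) (𝒟.A ((i : ℕ) + 1)) (A' 𝒟 g c K ((i : ℕ) + 1)) :=
  letI : Algebra (𝒟.A ((i : ℕ) + 1)) (A' 𝒟 g c K ((i : ℕ) + 1)) :=
    instAlgAA 𝒟 g c K ⟨(i : ℕ) + 1, h⟩
  IsScalarTower.of_algebraMap_eq fun x => algebraMap_next 𝒟 g c K i h x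

theorem isLocalization_BA' (h : (i : ℕ) + 1 < 𝒟.n) :
    letI : Algebra (𝒟.A ((i : ℕ) + 1)) (A' 𝒟 g c K ((i : ℕ) + 1)) :=
      instAlgAA 𝒟 g c K ⟨(i : ℕ) + 1, h⟩
    IsLocalization.Away (algebraMap (𝒟.B i) (𝒟.A ((i : ℕ) + 1)) (b 𝒟 g c i))
      (A' 𝒟 g c K ((i : ℕ) + 1)) :=
  letI : Algebra (𝒟.A ((i : ℕ) + 1)) (A' 𝒟 g c K ((i : ℕ) + 1)) :=
    instAlgAA 𝒟 g c K ⟨(i : ℕ) + 1, h⟩
  haveI : IsLocalization.Away (a 𝒟 g c ((i : ℕ) + 1)) (A' 𝒟 g c K ((i : ℕ) + 1)) :=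
    instLocA 𝒟 g c K ⟨(i : ℕ) + 1, h⟩
  away_of_basicOpen_eq (a 𝒟 g c ((i : ℕ) + 1)) _ fun P => (next_iff 𝒟 g c h P).symm

theorem isPushout_BA' (h : (i : ℕ) + 1 < 𝒟.n) :
    letI : Algebra (𝒟.A ((i : ℕ) + 1)) (A' 𝒟 g c K ((i : ℕ) + 1)) :=
      instAlgAA 𝒟 g c K ⟨(i : ℕ) + 1, h⟩
    haveI := isScalarTower_next 𝒟 g c K i h
    Algebra.IsPushout (𝒟.B i) (B' 𝒟 g c K i) (𝒟.A ((i : ℕ) + 1)) (A' 𝒟 g c K ((i : ℕ) + 1)) :=
  letI : Algebra (𝒟.A ((i : ℕ) + 1)) (A' 𝒟 g c K ((i : ℕ) + 1)) :=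
    instAlgAA 𝒟 g c K ⟨(i : ℕ) + 1, h⟩
  haveI := isScalarTower_next 𝒟 g c K i h
  haveI := isLocalization_BA' 𝒟 g c K i h
  isPushout_away (b 𝒟 g c i)

end Next

end Step

end Groth.Agent.H8Props.Devissage.SH
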