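import Groth.Agent.H8Props.Devissage.ShrinkComplete

/-!
# The points of a standard shrinking of a complete dévissage
-/

set_option autoImplicit false

universe u

namespace Groth.Agent.H8Props.Devissage.SH

theorem liesOver_localization {T T₁ A : Type u} [CommRing T] [CommRing T₁] [CommRing A]
    [Algebra T T₁] [Algebra T₁ A] [Algebra T A] [IsScalarTower T T₁ A] (x : T)
    [IsLocalization.Away x T₁] (P : Ideal A) (Q : Ideal T) [P.LiesOver Q] :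
    P.LiesOver (Q.map (algebraMap T T₁)) := by
  refine ⟨?_⟩
  rw [← IsLocalization.map_under (Submonoid.powers x) T₁ (P.under T₁), Ideal.under_under,
    ← P.over_def Q]

variable {R S : Type u} [CommRing R] [CommRing S] [Algebra R S] {N : Type u} [AddCommGroup N]
  [Module S N] {p : Ideal R} [p.IsPrime] {q : Ideal S} [q.IsPrime]
  (𝒟 : FlatCA.CompleteDevissage R S N p) (𝒜 : FlatCA.CompleteDevissageAt R S N p q 𝒟)
  (g : R) (c : ∀ i, 𝒟.B i) (hX : S) (K : Type u) [Field K] [Algebra (Localization.Away g) K]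

/-- The point of a smooth algebra of a step of the shrinking. -/
noncomputable def qBs (j : Fin 𝒟.n) : Ideal (B' 𝒟 g c K j) :=
  (𝒜.qB j).map (algebraMap (𝒟.B j) (B' 𝒟 g c K j))

/-- The point of a carrying ring of a step of the shrinking. -/
noncomputable def qAs (j : Fin 𝒟.n) : Ideal (A' 𝒟 g c K j) :=
  (𝒜.qA j).map (algebraMap (𝒟.A j) (A' 𝒟 g c K j))

/-- The point of a smooth algebra of the shrinking. -/
noncomputable def qB' (i : ℕ) : Ideal (B' 𝒟 g c K i) :=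
  if h : i < 𝒟.n then qBs 𝒟 𝒜 g c K ⟨i, h⟩ else ⊥

/-- The point of a carrying ring of the shrinking. -/
noncomputable def qA' (i : ℕ) : Ideal (A' 𝒟 g c K i) :=
  if h : i < 𝒟.n then qAs 𝒟 𝒜 g c K ⟨i, h⟩ else ⊥

theorem qB'_eq (i : Fin 𝒟.n) :
    qB' 𝒟 𝒜 g c K i = (𝒜.qB i).map (algebraMap (𝒟.B i) (B' 𝒟 g c K i)) :=
  dif_pos i.2

theorem qA'_eq (i : Fin 𝒟.n) :
    qA' 𝒟 𝒜 g c K i = (𝒜.qA i).map (algebraMap (𝒟.A i) (A' 𝒟 g c K i)) :=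
  dif_pos i.2

/-- The elements avoid the points. -/
class Avoids : Prop where
  avoid_base : g ∉ p
  avoid : ∀ i, i < 𝒟.n → c i ∉ 𝒜.qB i

variable [hv : Avoids 𝒟 𝒜 g c]

include hv in
omit [Algebra (Localization.Away g) K] in
theorem b_notMem (i : Fin 𝒟.n) : b 𝒟 g c i ∉ 𝒜.qB i := fun hm => by
  have := 𝒜.hqB i
  rcases (inferInstance : (𝒜.qB i).IsPrime).mem_or_mem hm with hm | hm
  · exact hv.avoid i i.2 hm
  · exact algebraMap_notMem_qB 𝒜 i hv.avoid_base hm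

include hv in
omit [Algebra (Localization.Away g) K] in
theorem a_notMem (i : Fin 𝒟.n) : a 𝒟 g c i ∉ 𝒜.qA i :=
  notMem_qA_of_notMem 𝒜 i (b_notMem 𝒟 𝒜 g c i)

include hv in
theorem isPrime_qB' (i : ℕ) : (qB' 𝒟 𝒜 g c K i).IsPrime := by
  by_cases h : i < 𝒟.n
  · obtain ⟨j, rfl⟩ : ∃ j : Fin 𝒟.n, (j : ℕ) = i := ⟨⟨i, h⟩, rfl⟩
    have := 𝒜.hqB j
    rw [qB'_eq]
    exact isPrime_map_away (b 𝒟 g c j) _ (b_notMem 𝒟 𝒜 g c j)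
  · have := isDomain_tail 𝒟 g c K i h
    rw [qB', dif_neg h]
    exact Ideal.isPrime_bot

include hv in
theorem isPrime_qA' (i : ℕ) : (qA' 𝒟 𝒜 g c K i).IsPrime := by
  by_cases h : i < 𝒟.n
  · obtain ⟨j, rfl⟩ : ∃ j : Fin 𝒟.n, (j : ℕ) = i := ⟨⟨i, h⟩, rfl⟩
    have := 𝒜.hqA j
    rw [qA'_eq]
    exact isPrime_map_away (a 𝒟 g c j) _ (a_notMem 𝒟 𝒜 g c j)
  · have := isDomain_tailA 𝒟 g c K i h
    rw [qA', dif_neg h]
    exact Ideal.isPrime_bot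

include hv in
theorem qB'_liesOver (i : Fin 𝒟.n) : (qB' 𝒟 𝒜 g c K i).LiesOver (𝒜.qB i) := by
  have := 𝒜.hqB i
  rw [qB'_eq]
  exact liesOver_map_away (b 𝒟 g c i) _ (b_notMem 𝒟 𝒜 g c i)

include hv in
theorem qA'_liesOver (i : Fin 𝒟.n) : (qA' 𝒟 𝒜 g c K i).LiesOver (𝒜.qA i) := by
  have := 𝒜.hqA i
  rw [qA'_eq]
  exact liesOver_map_away (a 𝒟 g c i) _ (a_notMem 𝒟 𝒜 g c i)

include hv in
theorem qA'_liesOver_qB' (i : ℕ) : (qA' 𝒟 𝒜 g c K i).LiesOver (qB' 𝒟 𝒜 g c K i) := by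
  by_cases h : i < 𝒟.n
  · obtain ⟨j, rfl⟩ : ∃ j : Fin 𝒟.n, (j : ℕ) = i := ⟨⟨i, h⟩, rfl⟩
    have := 𝒜.overA j
    have := qA'_liesOver 𝒟 𝒜 g c K j
    have := Ideal.LiesOver.trans (qA' 𝒟 𝒜 g c K j) (𝒜.qA j) (𝒜.qB j)
    rw [qB'_eq]
    exact liesOver_localization (b 𝒟 g c j) _ _
  · rw [qA', dif_neg h, qB', dif_neg h]
    refine ⟨Ideal.ext fun z => ?_⟩
    obtain ⟨⟨k, x⟩, rfl⟩ : ∃ w, mkB 𝒟 g c K i w = z := Ideal.Quotient.mk_surjective z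
    rw [Ideal.mem_bot, Ideal.under_def, Ideal.mem_comap, Ideal.mem_bot]
    show _ ↔ mkA 𝒟 g c K i (k, l0 𝒟 g c i x) = 0
    rw [← map_zero (mkA 𝒟 g c K i), mkA_eq_iff, cut_of_not_lt K h,
      ← map_zero (mkB 𝒟 g c K i), mkB_eq_iff, cut_of_not_lt K h]
    simp [Ideal.mem_prod]

variable (p₁ : Ideal (Localization.Away g)) [p₁.IsPrime] [hK : (⊥ : Ideal K).LiesOver p₁]
  [hpl : p₁.LiesOver p]

omit [p₁.IsPrime] hK in
include hpl in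
theorem map_p : p.map (algebraMap R (Localization.Away g)) = p₁ := by
  rw [hpl.over, Ideal.under_def]
  exact IsLocalization.map_under (Submonoid.powers g) _ p₁

include hv hK hpl in
omit [p₁.IsPrime] in
theorem qB'_liesOver_base (i : ℕ) : (qB' 𝒟 𝒜 g c K i).LiesOver p₁ := by
  by_cases h : i < 𝒟.n
  · obtain ⟨j, rfl⟩ : ∃ j : Fin 𝒟.n, (j : ℕ) = i := ⟨⟨i, h⟩, rfl⟩
    have := 𝒜.overB j
    have := qB'_liesOver 𝒟 𝒜 g c K j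
    have := Ideal.LiesOver.trans (qB' 𝒟 𝒜 g c K j) (𝒜.qB j) p
    rw [← map_p (p := p) g p₁]
    exact liesOver_localization g _ _
  · rw [qB', dif_neg h]
    exact bot_liesOver_tail 𝒟 g c K p₁ i h

include hv hK hpl in
theorem pureTrans (i : Fin 𝒟.n) [(qB' 𝒟 𝒜 g c K i).IsPrime]
    [(qB' 𝒟 𝒜 g c K i).LiesOver p₁] :
    FlatCA.PurelyTranscendental p₁ (qB' 𝒟 𝒜 g c K i) := by
  have := 𝒜.hqB i
  have := 𝒜.overB i
  have := qB'_liesOver 𝒟 𝒜 g c K i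
  exact purelyTranscendental_of_isLocalization (Submonoid.powers (b 𝒟 g c i)) (𝒜.qB i) _
    (Submonoid.powers g) p p₁ (𝒜.pureTrans i i.2)

include hv in
omit [p₁.IsPrime] hK hpl in
theorem uniq (i : Fin 𝒟.n) (Q : Ideal (A' 𝒟 g c K i)) [Q.IsPrime]
    (hQ : Q.LiesOver (qB' 𝒟 𝒜 g c K i)) : Q = qA' 𝒟 𝒜 g c K i := by
  have := qB'_liesOver 𝒟 𝒜 g c K i
  have := Ideal.LiesOver.trans Q (qB' 𝒟 𝒜 g c K i) (𝒜.qB i)
  have hy : (Q.under (𝒟.A i)).LiesOver (𝒜.qB i) :=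
    ⟨(Q.over_def (𝒜.qB i)).trans (Ideal.under_under Q).symm⟩
  rw [qA'_eq, ← 𝒜.uniq i i.2 _ hy]
  exact (IsLocalization.map_under (Submonoid.powers (a 𝒟 g c i)) _ Q).symm

omit [p₁.IsPrime] hK hpl hv in
theorem relDim (i : Fin 𝒟.n) :
    FlatCA.SmoothRelDim (𝒜.d i) (Localization.Away g) (B' 𝒟 g c K i) :=
  smoothRelDim_localization g (b 𝒟 g c i) _ (𝒜.relDim i i.2)

include hv hpl in
omit hK in
theorem locDim (i : Fin 𝒟.n) [(qB' 𝒟 𝒜 g c K i).IsPrime]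
    [(qB' 𝒟 𝒜 g c K i).LiesOver p₁] :
    ∃ (x : PrimeSpectrum (p₁.Fiber (B' 𝒟 g c K i)))
      (hx : x ∈ Module.support (p₁.Fiber (B' 𝒟 g c K i))
        (FlatCA.fiberMod p₁ (B' 𝒟 g c K i) (M' 𝒟 g c K i))),
      x.asIdeal = FlatCA.fiberIdeal p₁ (qB' 𝒟 𝒜 g c K i) ∧
      FlatMor.localDim (Module.support (p₁.Fiber (B' 𝒟 g c K i))
        (FlatCA.fiberMod p₁ (B' 𝒟 g c K i) (M' 𝒟 g c K i))) ⟨x, hx⟩ = 𝒜.d i := by
  have := 𝒜.hqB i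
  have := 𝒜.overB i
  have := 𝒟.finiteM i i.2
  have := 𝒟.finiteBA i i.2
  have : Module.Finite (𝒟.B i) (𝒟.M i) := Module.Finite.trans (𝒟.A i) (𝒟.M i)
  have hb := gM_isBaseChange_B 𝒟 g c K i
  have : Module.Finite (B' 𝒟 g c K i) (M' 𝒟 g c K i) := Module.Finite.equiv hb.equiv
  have hq := qB'_liesOver 𝒟 𝒜 g c K i
  obtain ⟨hqs, hqd⟩ := (exists_localDim_iff p (𝒟.M i) (𝒜.qB i) _).mp (𝒜.locDim i i.2)
  have hemb := isOpenEmbedding_fibreSupp p (𝒟.M i) g (b 𝒟 g c i) p₁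
    (N₁ := M' 𝒟 g c K i) hb
  have he : PrimeSpectrum.comap (algebraMap (𝒟.B i) (B' 𝒟 g c K i))
      ⟨qB' 𝒟 𝒜 g c K i, inferInstance⟩ = ⟨𝒜.qB i, inferInstance⟩ :=
    PrimeSpectrum.ext ((qB' 𝒟 𝒜 g c K i).over_def (𝒜.qB i)).symm
  have hmem : (⟨qB' 𝒟 𝒜 g c K i, inferInstance⟩ : PrimeSpectrum (B' 𝒟 g c K i)) ∈
      fibreSupp (S := B' 𝒟 g c K i) p₁ (M' 𝒟 g c K i) := by
    refine (mem_fibreSupp_iff p (𝒟.M i) g p₁ hb _).mpr ?_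
    rw [he]
    exact hqs
  refine (exists_localDim_iff p₁ (M' 𝒟 g c K i) (qB' 𝒟 𝒜 g c K i) _).mpr ⟨hmem, ?_⟩
  rw [localDim_openEmbedding hemb]
  have hfq : (⟨_, (mem_fibreSupp_iff p (𝒟.M i) g p₁ hb _).mp hmem⟩ :
      fibreSupp (S := 𝒟.B i) p (𝒟.M i)) = ⟨_, hqs⟩ := Subtype.ext he
  rw [hfq, hqd]

variable [Shrinks 𝒟 c] [LastPoint 𝒟 g c K] [Start 𝒟 g c hX]

include hv in
omit [p₁.IsPrime] hK hpl in
theorem q0 : (qA' 𝒟 𝒜 g c K 0).comap (algebraMap (Localization.Away hX) (A' 𝒟 g c K 0)) =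
    q.map (algebraMap S (Localization.Away hX)) := by
  have h : (qA' 𝒟 𝒜 g c K 0).comap (algebraMap (𝒟.A 0) (A' 𝒟 g c K 0)) = 𝒜.qA 0 :=
    ((qA'_liesOver 𝒟 𝒜 g c K ⟨0, 𝒟.pos⟩).over).symm
  have : (qA' 𝒟 𝒜 g c K 0).LiesOver q := ⟨by
    rw [Ideal.under_def, IsScalarTower.algebraMap_eq S (𝒟.A 0) (A' 𝒟 g c K 0),
      ← Ideal.comap_comap, h, 𝒜.q0]⟩
  exact ((liesOver_localization hX _ q : (qA' 𝒟 𝒜 g c K 0).LiesOver
    (q.map (algebraMap S (Localization.Away hX)))).over).symm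

include hv in
omit [p₁.IsPrime] hK hpl in
theorem qStep (i : Fin 𝒟.n) (h : (i : ℕ) + 1 < 𝒟.n) :
    (qA' 𝒟 𝒜 g c K ((i : ℕ) + 1)).comap
      (algebraMap (B' 𝒟 g c K i) (A' 𝒟 g c K ((i : ℕ) + 1))) = qB' 𝒟 𝒜 g c K i := by
  let : Algebra (𝒟.A ((i : ℕ) + 1)) (A' 𝒟 g c K ((i : ℕ) + 1)) :=
    instAlgAA 𝒟 g c K ⟨(i : ℕ) + 1, h⟩
  have := isScalarTower_next 𝒟 g c K i h
  have h' : (qA' 𝒟 𝒜 g c K ((i : ℕ) + 1)).comap
      (algebraMap (𝒟.A ((i : ℕ) + 1)) (A' 𝒟 g c K ((i : ℕ) + 1))) = 𝒜.qA ((i : ℕ) + 1) :=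
    ((qA'_liesOver 𝒟 𝒜 g c K ⟨(i : ℕ) + 1, h⟩).over).symm
  have : (qA' 𝒟 𝒜 g c K ((i : ℕ) + 1)).LiesOver (𝒜.qB i) := ⟨by
    rw [Ideal.under_def,
      IsScalarTower.algebraMap_eq (𝒟.B i) (𝒟.A ((i : ℕ) + 1)) (A' 𝒟 g c K ((i : ℕ) + 1)),
      ← Ideal.comap_comap, h', 𝒜.qStep i h]⟩
  rw [qB'_eq]
  exact ((liesOver_localization (b 𝒟 g c i) _ (𝒜.qB i) :
    (qA' 𝒟 𝒜 g c K ((i : ℕ) + 1)).LiesOver _).over).symm

variable [Covers 𝒟 g c] [Algebra (Localization.Away g) (Localization.Away hX)]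
  [IsScalarTower R (Localization.Away g) (Localization.Away hX)]
  [(q.map (algebraMap S (Localization.Away hX))).IsPrime]

/-- The standard shrinking of a complete dévissage at a point is one at the point. -/
noncomputable def devissageAt :
    FlatCA.CompleteDevissageAt (Localization.Away g) (Localization.Away hX)
      (LocalizedModule (Submonoid.powers hX) N) p₁ (q.map (algebraMap S (Localization.Away hX)))
      (devissage 𝒟 g c hX K p₁) where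
  qB := qB' 𝒟 𝒜 g c K
  qA := qA' 𝒟 𝒜 g c K
  hqB := isPrime_qB' 𝒟 𝒜 g c K
  hqA := isPrime_qA' 𝒟 𝒜 g c K
  overB := qB'_liesOver_base 𝒟 𝒜 g c K p₁
  overA := qA'_liesOver_qB' 𝒟 𝒜 g c K
  pureTrans i h :=
    have := isPrime_qB' 𝒟 𝒜 g c K i
    have := qB'_liesOver_base 𝒟 𝒜 g c K p₁ i
    pureTrans 𝒟 𝒜 g c K p₁ ⟨i, h⟩
  uniq i h := fun Q hQ' hQ => @uniq _ _ _ _ _ _ _ _ _ _ _ _ 𝒟 𝒜 g c K _ _ _ ⟨i, h⟩ Q hQ' hQ
  q0 := q0 𝒟 𝒜 g c hX K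
  qStep i h := qStep 𝒟 𝒜 g c K ⟨i, Nat.lt_of_succ_lt h⟩ h
  d := 𝒜.d
  relDim i h := relDim 𝒟 𝒜 g c K ⟨i, h⟩
  locDim i h :=
    have := isPrime_qB' 𝒟 𝒜 g c K i
    have := qB'_liesOver_base 𝒟 𝒜 g c K p₁ i
    locDim 𝒟 𝒜 g c K p₁ ⟨i, h⟩

end Groth.Agent.H8Props.Devissage.SH
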